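import Groth.Agent.Lib.WittHom23.Lift
import Groth.Agent.Lib.PPoly21.Basic
import Mathlib.Algebra.Polynomial.HasseDeriv
import Mathlib.Algebra.Polynomial.Taylor
import Mathlib.FieldTheory.IsAlgClosed.Basic

/-!
# Endomorphisms of Witt groups
-/

set_option autoImplicit false

universe u

open CategoryTheory AlgebraicGeometry MonObj MonoidalCategory CartesianMonoidalCategory

noncomputable section

namespace Groth.Agent.WittHom23

/-- A polynomial in one variable which is additive is a `p`-polynomial. -/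
theorem isPPolynomial {k : Type u} [Field k] (p : ℕ) [Fact p.Prime] [CharP k p] {P : Polynomial k}
    (h : (P.map Polynomial.C).comp (Polynomial.X + Polynomial.C Polynomial.X) = P.map Polynomial.C + Polynomial.C P) :
    ∀ e ∈ P.support, ∃ j, e = p ^ j := by
  intro e he
  have hne : e ≠ 0 := by
    rintro rfl
    have h0 := congrArg (fun Q => (Q.eval 0).eval 0) h
    simp [Polynomial.eval_map] at h0
    exact (Polynomial.mem_support_iff.1 he) (by simpa [Polynomial.coeff_zero_eq_eval_zero] using h0)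
  refine PPoly21.exists_eq_pow_of_choose (k := k) p hne fun r hr hre => ?_
  have h1 := congrArg (fun Q => Q.coeff r) h
  rw [← Polynomial.taylor_apply] at h1
  simp only [Polynomial.taylor_coeff, Polynomial.coeff_add, Polynomial.coeff_map, Polynomial.coeff_C,
    if_neg (Nat.pos_iff_ne_zero.1 hr), add_zero] at h1
  have h2 : Polynomial.hasseDeriv r (P.map (Polynomial.C : k →+* Polynomial k)) =
      (Polynomial.hasseDeriv r P).map Polynomial.C := by
    ext n : 1
    simp [Polynomial.hasseDeriv_coeff]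
  rw [h2, Polynomial.eval_map, Polynomial.eval₂_C_X] at h1
  have h3 := congrArg (fun Q => Q.coeff (e - r)) h1
  simp only [Polynomial.hasseDeriv_coeff, Polynomial.coeff_C, if_neg (show e - r ≠ 0 by omega)] at h3
  rw [Nat.sub_add_cancel hre.le] at h3
  exact (mul_eq_zero.1 h3).resolve_right (Polynomial.mem_support_iff.1 he)

variable (p : ℕ) [hp : Fact p.Prime] (k : Type u) [Field k] [CharP k p]

/-- The base. -/
abbrev B : CommRingCat.{u} := CommRingCat.of k

theorem natCast_base : (p : Γ(Spec (B k), ⊤)) = 0 := by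
  rw [← map_natCast (Scheme.ΓSpecIso (B k)).inv.hom p]
  simp

/-- The functions of `W_n` applied to a point. -/
theorem appTop_eq_eval₂ {n : ℕ} {T : Over (Spec (B k))} (x : T ⟶ WittGrp.W p n (Spec (B k)))
    (a : Γ((WittGrp.W p n (Spec (B k))).left, ⊤)) :
    x.left.appTop.hom a = MvPolynomial.eval₂ (const (B k) T) (fun i => (vec x).coeff i.down) (toPoly p n (B k) a) := by
  let e := RingEquiv.ofBijective _ (toPoly_bijective p n (B k))
  have h : x.left.appTop.hom.comp e.symm.toRingHom =
      MvPolynomial.eval₂Hom (const (B k) T) (fun i => (vec x).coeff i.down) := by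
    refine MvPolynomial.ringHom_ext (fun c => ?_) (fun i => ?_)
    · have : e.symm (MvPolynomial.C c) = const (B k) _ c :=
        e.injective (by rw [e.apply_symm_apply]; exact (toPoly_const' p (B k) c).symm)
      simp only [RingHom.comp_apply, RingEquiv.toRingHom_eq_coe, RingHom.coe_coe, this, MvPolynomial.eval₂Hom_C]
      exact const_comp (B k) x c
    · obtain ⟨i⟩ := i
      have : e.symm (MvPolynomial.X (ULift.up i)) = WittGrp.coord p i :=
        e.injective (by rw [e.apply_symm_apply]; exact (toPoly_coord p n (B k) i).symm)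
      simp only [RingHom.comp_apply, RingEquiv.toRingHom_eq_coe, RingHom.coe_coe, this, MvPolynomial.eval₂Hom_X']
      exact (WittGrp.coeff_pts p T x i).symm
  have h1 := DFunLike.congr_fun h (e a)
  simp only [RingHom.comp_apply, RingEquiv.toRingHom_eq_coe, RingHom.coe_coe, e.symm_apply_apply] at h1
  exact h1

/-- The endomorphisms of `W_1` are the additive polynomials. -/
theorem exists_eq_lift (g : WittGrp.W p 1 (Spec (B k)) ⟶ WittGrp.W p 1 (Spec (B k))) [IsMonHom g] :
    ∃ (s : Finset ℕ) (a : ℕ → k), g = lift p (B k) (natCast_base p k) 1 s a := by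
  classical
  let Q := toPoly p 1 (B k) ((vec g).coeff 0)
  let P : Polynomial k := MvPolynomial.eval₂ Polynomial.C (fun _ => Polynomial.X) Q
  -- the value of `g` on a point
  have hval : ∀ (T : Over (Spec (B k))) (x : T ⟶ WittGrp.W p 1 (Spec (B k))),
      (vec (x ≫ g)).coeff 0 = P.eval₂ (const (B k) T) ((vec x).coeff 0) := by
    intro T x
    rw [vec_comp, WittGrp.coeff_truncMap, appTop_eq_eval₂]
    let φ : Polynomial k →+* Γ(T.left, ⊤) := Polynomial.eval₂RingHom (const (B k) T) ((vec x).coeff 0)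
    have hφ := MvPolynomial.eval₂_comp_left φ Polynomial.C (fun _ : ULift.{u} (Fin 1) => Polynomial.X) Q
    refine Eq.trans ?_ hφ.symm
    refine congrArg₂ (fun f v => MvPolynomial.eval₂ f v Q) (RingHom.ext fun c => ?_) (funext fun i => ?_)
    · simp [φ]
    · simp [φ, Subsingleton.elim i.down 0]
  -- additivity
  let T2 := WittGrp.W p 2 (Spec (B k))
  let z : Fin 2 → Γ(T2.left, ⊤) := fun i => WittGrp.coord p i
  let pt : Γ(T2.left, ⊤) → (T2 ⟶ WittGrp.W p 1 (Spec (B k))) := fun w => ofVec (TruncatedWittVector.mk p fun _ => w)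
  have hpt : ∀ w, (vec (pt w)).coeff 0 = w := fun w => by rw [vec_ofVec, TruncatedWittVector.coeff_mk]
  have h0 : coeff0 p (vec ((pt (z 0) * pt (z 1)) ≫ g)) = coeff0 p (vec (pt (z 0) ≫ g)) + coeff0 p (vec (pt (z 1) ≫ g)) := by
    rw [vec_comp_mul, map_add]
  change (vec ((pt (z 0) * pt (z 1)) ≫ g)).coeff 0 = (vec (pt (z 0) ≫ g)).coeff 0 + (vec (pt (z 1) ≫ g)).coeff 0 at h0
  rw [hval, hval, hval, show (vec (pt (z 0) * pt (z 1))).coeff 0 = z 0 + z 1 from by
    rw [vec_mul]; exact (map_add (coeff0 p) _ _).trans (congrArg₂ (· + ·) (hpt _) (hpt _)), hpt, hpt] at h0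
  let ev : MvPolynomial (ULift.{u} (Fin 2)) k →+* Polynomial (Polynomial k) :=
    MvPolynomial.eval₂Hom (Polynomial.C.comp Polynomial.C) (fun i => if i.down = 0 then Polynomial.X else Polynomial.C Polynomial.X)
  let χ : Γ(T2.left, ⊤) →+* Polynomial (Polynomial k) := ev.comp (toPoly p 2 (B k))
  have hχc : χ.comp (const (B k) T2) = Polynomial.C.comp Polynomial.C := RingHom.ext fun c => by
    show ev (toPoly p 2 (B k) (const (B k) _ c)) = _
    rw [toPoly_const']
    exact MvPolynomial.eval₂Hom_C _ _ _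
  have hχ0 : χ (z 0) = Polynomial.X := by
    show ev (toPoly p 2 (B k) (WittGrp.coord p 0)) = _
    rw [toPoly_coord]
    exact (MvPolynomial.eval₂Hom_X' _ _ _).trans (if_pos rfl)
  have hχ1 : χ (z 1) = Polynomial.C Polynomial.X := by
    show ev (toPoly p 2 (B k) (WittGrp.coord p 1)) = _
    rw [toPoly_coord]
    exact (MvPolynomial.eval₂Hom_X' _ _ _).trans (if_neg one_ne_zero)
  have h1 := congrArg χ h0
  rw [map_add, Polynomial.hom_eval₂, Polynomial.hom_eval₂, Polynomial.hom_eval₂, map_add, hχc, hχ0, hχ1,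
    ← Polynomial.eval₂_map, ← Polynomial.eval₂_map, ← Polynomial.eval₂_map, Polynomial.eval₂_C_X] at h1
  rw [← Polynomial.comp, Polynomial.eval₂_at_apply, Polynomial.eval_map, Polynomial.eval₂_C_X] at h1
  have hP := isPPolynomial p h1
  refine ⟨P.support.image (Nat.log p), fun j => P.coeff (p ^ j), eq_of_comp_eq fun T x => vec_injective
    (TruncatedWittVector.ext fun i => ?_)⟩
  rw [Subsingleton.elim i 0, hval, vec_lift]
  refine Eq.trans ?_ (map_sum (coeff0 p) _ _).symm
  rw [Polynomial.eval₂_eq_sum, Polynomial.sum,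
    Finset.sum_image (fun e he e' he' hee' => by
      obtain ⟨j, rfl⟩ := hP e he
      obtain ⟨j', rfl⟩ := hP e' he'
      simp only [Nat.log_pow hp.out.one_lt] at hee'
      rw [hee'])]
  refine Finset.sum_congr rfl fun e he => ?_
  obtain ⟨j, rfl⟩ := hP e he
  simp only [coeff0, AddMonoidHom.coe_mk, ZeroHom.coe_mk]
  rw [coeff_zero_mul, coeff_teich, coeff_frob_iterate, Nat.log_pow hp.out.one_lt, Fin.val_zero, if_pos rfl]

variable {p k}

/-- Factorisation through restriction, given vanishing on the shift. -/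
theorem factor_R_of_comp_V {N m d l : ℕ} (h : N = m + d) (hd : d ≤ N) (hm : m ≤ N) {S : Scheme.{u}}
    (f : WittGrp.W p N S ⟶ WittGrp.W p l S) [IsMonHom f] (hf : WittGrp.V p S hd ≫ f = 1) :
    ∃ g : WittGrp.W p m S ⟶ WittGrp.W p l S, IsMonHom g ∧ WittGrp.R p S hm ≫ g = f := by
  have hker : ∀ (T : Over S) (x y : T ⟶ WittGrp.W p N S),
      x ≫ WittGrp.R p S hm = y ≫ WittGrp.R p S hm → x ≫ f = y ≫ f := by
    intro T x y hxy
    have hd' : TruncatedWittVector.truncate hm (vec (x * y⁻¹)) = 0 := by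
      rw [vec_mul, vec_inv, map_add, map_neg, ← vec_R, ← vec_R, hxy, add_neg_cancel]
    obtain ⟨w, hw⟩ := exists_shift_eq p hd (vec (x * y⁻¹)) (fun i hi => by
      have h := congrArg (fun v => TruncatedWittVector.coeff (p := p) (⟨i, by omega⟩ : Fin m) v) hd'
      simp only [TruncatedWittVector.coeff_truncate, TruncatedWittVector.coeff_zero] at h
      exact h)
    have hfd : (x * y⁻¹) ≫ f = 1 := by
      rw [show x * y⁻¹ = ofVec w ≫ WittGrp.V p S hd from vec_injective (by rw [vec_V, vec_ofVec, hw]),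
        Category.assoc, hf, MonObj.comp_one]
    rw [show x = (x * y⁻¹) * y by rw [inv_mul_cancel_right], MonObj.mul_comp, hfd, _root_.one_mul]
  let s : WittGrp.W p m S ⟶ WittGrp.W p N S := ofVec (TruncatedWittVector.mk p fun i =>
    if hi : (i : ℕ) < m then (vec (𝟙 (WittGrp.W p m S))).coeff ⟨i, hi⟩ else 0)
  have hs : s ≫ WittGrp.R p S hm = 𝟙 _ := vec_injective (by
    rw [vec_R, vec_ofVec]
    refine TruncatedWittVector.ext fun i => ?_
    rw [TruncatedWittVector.coeff_truncate, TruncatedWittVector.coeff_mk, dif_pos (by simp)]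
    rfl)
  refine ⟨s ≫ f, isMonHom_of_vec fun T x y => ?_, eq_of_comp_eq fun T x => ?_⟩
  · rw [← Category.assoc, ← Category.assoc, ← Category.assoc, ← vec_comp_mul]
    refine congrArg vec (hker T _ _ (vec_injective ?_))
    simp only [Category.assoc, hs, Category.comp_id, vec_R, vec_mul, map_add]
    rw [← vec_R, ← vec_R, Category.assoc, Category.assoc, hs, Category.comp_id, Category.comp_id]
  · rw [← Category.assoc, ← Category.assoc]
    exact hker T _ _ (by simp only [Category.assoc, hs, Category.comp_id])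

theorem eq_one_of_zero {S : Scheme.{u}} {T : Over S} (x : T ⟶ WittGrp.W p 0 S) : x = 1 :=
  vec_injective (TruncatedWittVector.ext fun i => i.elim0)

/-- A homomorphism to a shorter Witt group kills the last shift. -/
theorem comp_V_last (n : ℕ) (f : WittGrp.W p (n + 1) (Spec (B k)) ⟶ WittGrp.W p n (Spec (B k))) [IsMonHom f] :
    WittGrp.V p (Spec (B k)) (Nat.le_add_left 1 n) ≫ f = 1 := by
  have hR := natCast_base p k
  have hA := WittGrp.natCast_eq_zero_of_over p hR (WittGrp.W p 1 (Spec (B k)))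
  let v := vec (𝟙 (WittGrp.W p 1 (Spec (B k))))
  let u : WittGrp.W p 1 (Spec (B k)) ⟶ WittGrp.W p (n + 1) (Spec (B k)) :=
    ofVec (TruncatedWittVector.mk p fun i => if (i : ℕ) = 0 then v.coeff 0 else 0)
  have hu : u ^ p ^ n = ofVec ((WittGrp.frob p 1 hA)^[n] v) ≫ WittGrp.V p (Spec (B k)) (Nat.le_add_left 1 n) :=
    vec_injective (TruncatedWittVector.ext fun i => by
      rw [vec_pow, coeff_nsmul_prime_pow p hA, vec_V, vec_ofVec, vec_ofVec, WittGrp.coeff_shift]
      split_ifs with h1 h2 h2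
      · rw [TruncatedWittVector.coeff_mk, coeff_frob_iterate, if_pos (show (i : ℕ) - n = 0 by omega)]
        congr 2
        exact Subsingleton.elim _ _
      · omega
      · omega
      · rfl)
  have hz : vec ((u ^ p ^ n) ≫ f) = 0 := by
    rw [vec_comp_pow]
    refine TruncatedWittVector.ext fun i => ?_
    rw [coeff_nsmul_prime_pow p hA, dif_neg (by omega), TruncatedWittVector.coeff_zero]
  rw [hu, Category.assoc] at hz
  have key : ∀ (i : ℕ) (h : WittGrp.W p 1 (Spec (B k)) ⟶ WittGrp.W p n (Spec (B k))),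
      vec (ofVec ((WittGrp.frob p 1 hA)^[i] v) ≫ h) = 0 → vec h = 0 := by
    intro i
    induction i with
    | zero => intro h hh; rwa [Function.iterate_zero_apply, ofVec_vec, Category.id_comp] at hh
    | succ i ih =>
      intro h hh
      have e : ofVec ((WittGrp.frob p 1 hA)^[i + 1] v) =
          WittGrp.F p 1 (Spec (B k)) hR ≫ (ofVec ((WittGrp.frob p 1 hA)^[i] v) : WittGrp.W p 1 (Spec (B k)) ⟶ _) :=
        vec_injective (by
          rw [vec_comp, vec_ofVec, vec_ofVec, truncMap_frob_iterate, ← vec_comp, Category.comp_id,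
            Function.iterate_succ_apply]
          have h2 := WittGrp.pts_F p hR (𝟙 (WittGrp.W p 1 (Spec (B k))))
          rw [Category.id_comp] at h2
          exact congrArg _ h2.symm)
      rw [e, Category.assoc, vec_comp] at hh
      refine ih h (TruncatedWittVector.ext fun l => appTop_F_injective p 1 (B k) hR ?_)
      have h3 := congrArg (fun v => TruncatedWittVector.coeff (p := p) l v) hh
      simp only [WittGrp.coeff_truncMap, TruncatedWittVector.coeff_zero] at h3
      rw [TruncatedWittVector.coeff_zero, map_zero]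
      exact h3
  exact vec_injective ((key n _ hz).trans vec_one.symm)

theorem R_comp_R {a b b' c : ℕ} {S : Scheme.{u}} (h1 : a ≤ b) (h2 : b ≤ c) (h3 : a ≤ b') (h4 : b' ≤ c) :
    WittGrp.R p S h2 ≫ WittGrp.R p S h1 = WittGrp.R p S h4 ≫ WittGrp.R p S h3 :=
  eq_of_comp_eq fun T x => vec_injective (by
    rw [← Category.assoc, ← Category.assoc, vec_R, vec_R, vec_R, vec_R]
    exact TruncatedWittVector.ext fun i => by simp only [TruncatedWittVector.coeff_truncate, Fin.castLE_castLE])

theorem V_comp_R {n l : ℕ} {S : Scheme.{u}} (h1 : n + 1 ≤ l + 1) (h2 : l ≤ l + 1) (h3 : n ≤ n + 1) (h4 : n ≤ l) :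
    WittGrp.V p S h1 ≫ WittGrp.R p S h2 = WittGrp.R p S h3 ≫ WittGrp.V p S h4 :=
  eq_of_comp_eq fun T x => vec_injective (TruncatedWittVector.ext fun i => by
    simp only [← Category.assoc, vec_R, vec_V, TruncatedWittVector.coeff_truncate, WittGrp.coeff_shift, Fin.val_castLE]
    split_ifs <;> first | rfl | omega | (congr 1; exact Fin.ext (by simp)))

theorem truncate_shift {A : Type u} [CommRing A] {n l : ℕ} (h1 : n + 1 ≤ l + 1) (h2 : l ≤ l + 1) (h3 : n ≤ n + 1) (h4 : n ≤ l)
    (v : TruncatedWittVector p l A) :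
    WittGrp.shift p h3 (TruncatedWittVector.truncate h4 v) = TruncatedWittVector.truncate h1 (WittGrp.shift p h2 v) :=
  TruncatedWittVector.ext fun i => by
    simp only [TruncatedWittVector.coeff_truncate, WittGrp.coeff_shift, Fin.val_castLE]
    split_ifs <;> first | rfl | omega | (congr 1; exact Fin.ext (by simp))

theorem shift_shift {A : Type u} [CommRing A] {n b m : ℕ} (h1 : n ≤ b) (h2 : b ≤ m) (h : n ≤ m)
    (v : TruncatedWittVector p n A) : WittGrp.shift p h2 (WittGrp.shift p h1 v) = WittGrp.shift p h v :=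
  TruncatedWittVector.ext fun i => by
    simp only [WittGrp.coeff_shift]
    split_ifs <;> first | rfl | omega | (congr 1; exact Fin.ext (by simp; omega))

variable [IsAlgClosed k]

theorem exists_root (d : ℕ) (a : k) : ∃ b : k, b ^ p ^ d = a :=
  IsAlgClosed.exists_pow_nat_eq a (pow_pos hp.out.pos d)

variable (p k) in
/-- Endomorphisms extend along restriction and shift. -/
theorem exists_extensions (n : ℕ) (φ : WittGrp.W p n (Spec (B k)) ⟶ WittGrp.W p n (Spec (B k))) [IsMonHom φ]
    (N : ℕ) (h : n ≤ N) :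
    (∃ ψ : WittGrp.W p N (Spec (B k)) ⟶ WittGrp.W p N (Spec (B k)), IsMonHom ψ ∧
      WittGrp.R p (Spec (B k)) h ≫ φ = ψ ≫ WittGrp.R p (Spec (B k)) h) ∧
    (∃ τ : WittGrp.W p N (Spec (B k)) ⟶ WittGrp.W p N (Spec (B k)), IsMonHom τ ∧
      φ ≫ WittGrp.V p (Spec (B k)) h = WittGrp.V p (Spec (B k)) h ≫ τ) := by
  have hR := natCast_base p k
  induction n generalizing N with
  | zero =>
    have h1 : IsMonHom (1 : WittGrp.W p N (Spec (B k)) ⟶ WittGrp.W p N (Spec (B k))) :=
      isMonHom_of_vec fun T x y => by simp only [MonObj.comp_one, vec_one, add_zero]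
    refine ⟨⟨1, h1, (eq_one_of_zero _).trans (eq_one_of_zero _).symm⟩, ⟨1, h1, ?_⟩⟩
    refine eq_of_comp_eq fun T x => ?_
    rw [← Category.assoc, MonObj.comp_one, eq_one_of_zero (x ≫ φ), MonObj.comp_one]
    refine vec_injective ?_
    rw [vec_V, vec_one, map_zero, vec_one]
  | succ n ih =>
    obtain ⟨l, rfl⟩ : ∃ l, N = l + 1 := ⟨N - 1, by omega⟩
    have h1 : 1 ≤ n + 1 := Nat.le_add_left 1 n
    haveI : IsMonHom (φ ≫ WittGrp.R p (Spec (B k)) h1) := inferInstance
    obtain ⟨g, hg, hg'⟩ : ∃ g : WittGrp.W p 1 (Spec (B k)) ⟶ WittGrp.W p 1 (Spec (B k)), IsMonHom g ∧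
        WittGrp.R p (Spec (B k)) h1 ≫ g = φ ≫ WittGrp.R p (Spec (B k)) h1 := by
      refine factor_R_of_comp_V (d := n) (by omega) (Nat.le_succ n) h1 _ ?_
      exact comp_V_eq_one p (B k) hR n _
    obtain ⟨s, a, rfl⟩ := exists_eq_lift p k g
    let Φ := lift p (B k) hR (n + 1) s a
    haveI : IsMonHom Φ := isMonHom_lift p (B k) hR s a
    have hδ : ∀ (T : Over (Spec (B k))) (x : T ⟶ WittGrp.W p (n + 1) (Spec (B k))),
        TruncatedWittVector.truncate h1 (vec (x ≫ φ) - vec (x ≫ Φ)) = 0 := by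
      intro T x
      rw [map_sub, ← vec_R, ← vec_R, Category.assoc, Category.assoc, lift_comp_R p (B k) hR s a h1, ← hg', sub_self]
    obtain ⟨w, hw⟩ := exists_shift_eq p (Nat.le_succ n) (vec φ - vec Φ) (fun i hi => by
      have h := congrArg (fun v => TruncatedWittVector.coeff (p := p) (0 : Fin 1) v) (hδ _ (𝟙 _))
      simp only [Category.id_comp, TruncatedWittVector.coeff_truncate, TruncatedWittVector.coeff_zero] at h
      rwa [show i = Fin.castLE h1 0 from Fin.ext (show (i : ℕ) = 0 by omega)])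
    let ψ' : WittGrp.W p (n + 1) (Spec (B k)) ⟶ WittGrp.W p n (Spec (B k)) := ofVec w
    have hψ' : ∀ (T : Over (Spec (B k))) (x : T ⟶ WittGrp.W p (n + 1) (Spec (B k))),
        WittGrp.shift p (Nat.le_succ n) (vec (x ≫ ψ')) = vec (x ≫ φ) - vec (x ≫ Φ) := fun T x => by
      rw [vec_comp, vec_ofVec, ← WittGrp.truncMap_shift, hw, map_sub, ← vec_comp, ← vec_comp]
    haveI : IsMonHom ψ' := isMonHom_of_vec fun T x y => shift_injective p (Nat.le_succ n) (by
      rw [map_add, hψ', hψ', hψ', vec_comp_mul, vec_comp_mul]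
      abel)
    obtain ⟨χ, hχ, hχ'⟩ := factor_R_of_comp_V (d := 1) (m := n) rfl (Nat.le_add_left 1 n) (Nat.le_succ n) ψ'
      (comp_V_last n ψ')
    obtain ⟨⟨ψ'', hψ'', hR''⟩, ⟨τ'', hτ'', hV''⟩⟩ := ih χ l (by omega)
    have hφ : ∀ (T : Over (Spec (B k))) (x : T ⟶ WittGrp.W p (n + 1) (Spec (B k))),
        vec (x ≫ φ) = vec (x ≫ Φ) + WittGrp.shift p (Nat.le_succ n)
          (vec ((x ≫ WittGrp.R p (Spec (B k)) (Nat.le_succ n)) ≫ χ)) := fun T x => by
      rw [Category.assoc, hχ', hψ']; abel
    refine ⟨?_, ?_⟩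
    · refine ⟨lift p (B k) hR (l + 1) s a *
        (WittGrp.R p (Spec (B k)) (Nat.le_succ l) ≫ ψ'' ≫ WittGrp.V p (Spec (B k)) (Nat.le_succ l)),
        isMonHom_of_vec fun T x y => ?_, eq_of_comp_eq fun T x => vec_injective ?_⟩
      · haveI := isMonHom_lift p (B k) hR (n := l + 1) s a
        simp only [MonObj.comp_mul, MonObj.mul_comp, vec_mul, ← Category.assoc, vec_V, vec_R, map_add]
        abel
      · rw [← Category.assoc, hφ, ← Category.assoc, vec_R, MonObj.comp_mul, vec_mul, map_add, ← vec_R,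
          Category.assoc x (lift p (B k) hR (l + 1) s a),
          lift_comp_R p (B k) hR s a h]
        refine congrArg₂ (· + ·) (by rw [← Category.assoc]) ?_
        have e : WittGrp.R p (Spec (B k)) h ≫ WittGrp.R p (Spec (B k)) (Nat.le_succ n) ≫ χ =
            WittGrp.R p (Spec (B k)) (Nat.le_succ l) ≫ ψ'' ≫ WittGrp.R p (Spec (B k)) (show n ≤ l by omega) := by
          rw [← hR'', ← Category.assoc, ← Category.assoc]
          congr 1
          exact R_comp_R _ _ _ _
        rw [show ((x ≫ WittGrp.R p (Spec (B k)) h) ≫ WittGrp.R p (Spec (B k)) (Nat.le_succ n)) ≫ χ =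
          x ≫ WittGrp.R p (Spec (B k)) h ≫ WittGrp.R p (Spec (B k)) (Nat.le_succ n) ≫ χ by simp only [Category.assoc], e,
          ← Category.assoc (WittGrp.R p (Spec (B k)) _) ψ'', ← Category.assoc, ← Category.assoc, vec_R]
        simp only [← Category.assoc, vec_V]
        exact truncate_shift _ _ _ _ _
    · choose b hb using fun j => exists_root (p := p) (l + 1 - (n + 1)) (a j)
      refine ⟨lift p (B k) hR (l + 1) s b *
        (WittGrp.R p (Spec (B k)) (Nat.le_succ l) ≫ τ'' ≫ WittGrp.V p (Spec (B k)) (Nat.le_succ l)),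
        isMonHom_of_vec fun T x y => ?_, eq_of_comp_eq fun T x => vec_injective ?_⟩
      · haveI := isMonHom_lift p (B k) hR (n := l + 1) s b
        simp only [MonObj.comp_mul, MonObj.mul_comp, vec_mul, ← Category.assoc, vec_V, vec_R, map_add]
        abel
      · rw [← Category.assoc, vec_V, hφ, map_add, ← Category.assoc, MonObj.comp_mul, vec_mul, ← vec_V,
          Category.assoc x Φ,
          lift_comp_V p (B k) hR s a b h (fun j _ => hb j)]
        refine congrArg₂ (· + ·) (by rw [← Category.assoc]) ?_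
        have e : WittGrp.V p (Spec (B k)) h ≫ WittGrp.R p (Spec (B k)) (Nat.le_succ l) =
            WittGrp.R p (Spec (B k)) (Nat.le_succ n) ≫ WittGrp.V p (Spec (B k)) (show n ≤ l by omega) := V_comp_R _ _ _ _
        rw [show (x ≫ WittGrp.V p (Spec (B k)) h) ≫ WittGrp.R p (Spec (B k)) (Nat.le_succ l) ≫ τ'' ≫
            WittGrp.V p (Spec (B k)) (Nat.le_succ l) =
          x ≫ (WittGrp.V p (Spec (B k)) h ≫ WittGrp.R p (Spec (B k)) (Nat.le_succ l)) ≫ τ'' ≫
            WittGrp.V p (Spec (B k)) (Nat.le_succ l) by simp only [Category.assoc], e]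
        rw [Category.assoc (WittGrp.R p (Spec (B k)) _), ← Category.assoc (WittGrp.V p (Spec (B k)) _) τ'', ← hV'']
        simp only [← Category.assoc, vec_V]
        exact (shift_shift _ _ ((Nat.le_succ n).trans h) _).trans (shift_shift _ _ _ _).symm

variable (p k) in
/-- Precomposition and postcomposition with Frobenius have the same image. -/
theorem range_F (hp' : (p : Γ(Spec (B k), ⊤)) = 0) (n : ℕ)
    (h : WittGrp.W p n (Spec (B k)) ⟶ WittGrp.W p 1 (Spec (B k))) [IsMonHom h] :
    (∃ h₁, IsMonHom h₁ ∧ WittGrp.F p n (Spec (B k)) hp' ≫ h₁ = h) ↔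
      (∃ h₂, IsMonHom h₂ ∧ h₂ ≫ WittGrp.F p 1 (Spec (B k)) hp' = h) := by
  cases n with
  | zero =>
    have h1 : IsMonHom (1 : WittGrp.W p 0 (Spec (B k)) ⟶ WittGrp.W p 1 (Spec (B k))) :=
      isMonHom_of_vec fun T x y => by simp only [MonObj.comp_one, vec_one, add_zero]
    have e : h = 1 := eq_of_comp_eq fun T x => by rw [eq_one_of_zero x, MonObj.one_comp, MonObj.one_comp]
    subst e
    exact iff_of_true ⟨1, h1, MonObj.comp_one _⟩ ⟨1, h1, MonObj.one_comp _⟩
  | succ n =>
    have hn : 1 ≤ n + 1 := Nat.le_add_left 1 n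
    have hfac : ∀ (f : WittGrp.W p (n + 1) (Spec (B k)) ⟶ WittGrp.W p 1 (Spec (B k))) [IsMonHom f],
        ∃ s a, WittGrp.R p (Spec (B k)) hn ≫ lift p (B k) hp' 1 s a = f := by
      intro f _
      obtain ⟨g, hg, hg'⟩ := factor_R_of_comp_V (d := n) (by omega) (Nat.le_succ n) hn f
        (comp_V_eq_one p (B k) hp' n f)
      obtain ⟨s, a, rfl⟩ := exists_eq_lift p k g
      exact ⟨s, a, hg'⟩
    have hFR : WittGrp.F p (n + 1) (Spec (B k)) hp' ≫ WittGrp.R p (Spec (B k)) hn =
        WittGrp.R p (Spec (B k)) hn ≫ WittGrp.F p 1 (Spec (B k)) hp' :=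
      eq_of_comp_eq fun T x => vec_injective (by
        rw [← Category.assoc, ← Category.assoc, vec_R]
        simp only [vec, WittGrp.pts_F, WittGrp.pts_R]
        exact TruncatedWittVector.ext fun i => by simp [TruncatedWittVector.coeff_truncate])
    constructor
    · rintro ⟨h₁, hh₁, rfl⟩
      obtain ⟨s, a, rfl⟩ := hfac h₁
      choose b hb using fun j => exists_root (p := p) 1 (a j)
      haveI := isMonHom_lift p (B k) hp' (n := 1) s b
      refine ⟨WittGrp.R p (Spec (B k)) hn ≫ lift p (B k) hp' 1 s b, inferInstance, ?_⟩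
      rw [Category.assoc, ← lift_comp_F p (B k) hp' s a b (fun j _ => (pow_one p) ▸ hb j), ← Category.assoc,
        ← Category.assoc, hFR]
    · rintro ⟨h₂, hh₂, rfl⟩
      obtain ⟨s, b, rfl⟩ := hfac h₂
      haveI := isMonHom_lift p (B k) hp' (n := 1) s (fun j => b j ^ p)
      refine ⟨WittGrp.R p (Spec (B k)) hn ≫ lift p (B k) hp' 1 s (fun j => b j ^ p), inferInstance, ?_⟩
      rw [Category.assoc, ← lift_comp_F p (B k) hp' s (fun j => b j ^ p) b (fun _ _ => rfl), ← Category.assoc,
        ← Category.assoc, hFR]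

end Groth.Agent.WittHom23
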