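import Groth.Agent.Lib.WittHom23.Subgroup
import Groth.Agent.Lib.WittHom23.End
import Groth.Agent.Lib.CMChart4
import Groth.Prelude.Def_AlgGrp
import Groth.Prelude.Def_SGA7IX
import Mathlib.AlgebraicGeometry.Morphisms.QuasiFinite
import Mathlib.FieldTheory.IsAlgClosed.Basic

/-!
# Isogenies of Witt groups
-/

set_option autoImplicit false
set_option backward.isDefEq.respectTransparency.types false

universe u

open CategoryTheory AlgebraicGeometry MonObj MonoidalCategory CartesianMonoidalCategory TopologicalSpace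

noncomputable section

namespace Groth.Agent.WittHom23

variable (p : ℕ) [hp : Fact p.Prime] (k : Type u) [Field k] [IsAlgClosed k] [CharP k p]

instance smooth_W (n : ℕ) : Smooth (WittGrp.W p n (Spec (B k))).hom := by
  change Smooth (𝔸(ULift.{u} (Fin n); Spec (B k)) ↘ Spec (B k))
  haveI := CMEquiDim4.smooth_affineSpace (n := ULift.{u} (Fin n)) (Spec (B k))
  infer_instance

instance connectedSpace_W (n : ℕ) : ConnectedSpace ↥(WittGrp.W p n (Spec (B k))).left := by
  haveI : IrreducibleSpace ↥(WittGrp.W p n (Spec (B k))).left := irreducibleSpace_W p k n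
  infer_instance

/-- The point with all components equal to one in the zeroth place is not trivial. -/
theorem exists_pt_ne_one : ∃ t : sk k ⟶ WittGrp.W p 1 (Spec (B k)), t ≠ 1 := by
  refine ⟨ofVec (TruncatedWittVector.mk p fun _ => const (B k) (sk k) 1), fun h => ?_⟩
  have h1 := congrArg (fun v => (vec v).coeff (0 : Fin 1)) h
  simp only [vec_ofVec, vec_one, TruncatedWittVector.coeff_mk, TruncatedWittVector.coeff_zero, map_one] at h1
  haveI : Nontrivial Γ((sk k).left, ⊤) :=
    (Scheme.ΓSpecIso (CommRingCat.of k)).commRingCatIsoToRingEquiv.toEquiv.nontrivial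
  exact one_ne_zero h1

theorem finite_pts_ker_one (q : WittGrp.W p 1 (Spec (B k)) ⟶ WittGrp.W p 1 (Spec (B k))) [IsMonHom q] (hq : q ≠ 1) :
    {t : sk k ⟶ WittGrp.W p 1 (Spec (B k)) | t ≫ q = 1}.Finite := by
  haveI : IsNoetherianRing (B k) := inferInstanceAs (IsNoetherianRing k)
  haveI : IsLocallyNoetherian (WittGrp.W p 1 (Spec (B k))).left :=
    LocallyOfFiniteType.isLocallyNoetherian (WittGrp.W p 1 (Spec (B k))).hom
  haveI : AlgebraicGeometry.IsNoetherian (WittGrp.W p 1 (Spec (B k))).left := ⟨⟩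
  set z := (1 : sk k ⟶ WittGrp.W p 1 (Spec (B k))).left (IsLocalRing.closedPoint k)
  set C := q.left ⁻¹' {z}
  have hC : IsClosed C := (isClosed_pt k (1 : sk k ⟶ WittGrp.W p 1 (Spec (B k)))).preimage q.left.continuous
  have hfin : C.Finite := by
    by_cases hg : genericPoint (WittGrp.W p 1 (Spec (B k))).left ∈ C
    · exfalso
      have hu : C = Set.univ := Set.univ_subset_iff.1
        ((genericPoint_spec _).def.symm.le.trans (closure_minimal (Set.singleton_subset_iff.2 hg) hC))
      obtain ⟨t, ht⟩ := exists_pt_ne_one p k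
      obtain ⟨h, hh⟩ := (eq_one_or_surjective p k q).resolve_left hq t
      refine ht (pt_ext k ?_)
      rw [← hh, Over.comp_left, Scheme.Hom.comp_apply]
      exact (show h.left (IsLocalRing.closedPoint k) ∈ C from hu ▸ trivial)
    · haveI : NoetherianSpace C := inferInstance
      haveI : T1Space C := ⟨fun x => by
        have h := ((eq_genericPoint_or_isClosed p k x.1).resolve_left fun h => hg (by rw [← h]; exact x.2)).preimage
          continuous_subtype_val (f := fun y : C => y.1)
        convert h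
        ext y
        simp [Subtype.ext_iff]⟩
      haveI : QuasiSober C := hC.isClosedEmbedding_subtypeVal.quasiSober
      have hu : (Set.univ : Set C).Finite := by
        refine (Set.Finite.sUnion (NoetherianSpace.finite_irreducibleComponents (α := C)) fun c hc => ?_).subset
          fun x _ => Set.mem_sUnion_of_mem mem_irreducibleComponent (irreducibleComponent_mem_irreducibleComponents x)
        obtain ⟨ξ, hξ⟩ : ∃ ξ, IsGenericPoint ξ c := QuasiSober.sober hc.1 (isClosed_of_mem_irreducibleComponents c hc)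
        rw [← hξ.def, closure_singleton]
        exact Set.finite_singleton ξ
      haveI : Finite C := Set.finite_univ_iff.1 hu
      exact Set.toFinite C
  refine Set.Finite.of_finite_image (f := fun t => t.left (IsLocalRing.closedPoint k)) (hfin.subset ?_) fun a _ b _ h => pt_ext k h
  rintro _ ⟨t, ht, rfl⟩
  show q.left (t.left (IsLocalRing.closedPoint k)) = z
  rw [← Scheme.Hom.comp_apply, ← Over.comp_left, ht]

/-- An endomorphism with nontrivial leading part is surjective with finite kernel on points. -/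
theorem pts_of_leading (n : ℕ) (f : WittGrp.W p (n + 1) (Spec (B k)) ⟶ WittGrp.W p (n + 1) (Spec (B k))) [IsMonHom f]
    (hf : f ≫ WittGrp.R p (Spec (B k)) (Nat.le_add_left 1 n) ≠ 1) :
    (∀ t : sk k ⟶ WittGrp.W p (n + 1) (Spec (B k)), ∃ x, x ≫ f = t) ∧
      {x : sk k ⟶ WittGrp.W p (n + 1) (Spec (B k)) | x ≫ f = 1}.Finite := by
  induction n with
  | zero =>
    have hq : f ≠ 1 := fun h => hf (by rw [h, MonObj.one_comp])
    exact ⟨(eq_one_or_surjective p k f).resolve_left hq, finite_pts_ker_one p k f hq⟩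
  | succ n ih =>
    have h1 : 1 ≤ n + 2 := Nat.le_add_left 1 (n + 1)
    have hR := natCast_base p k
    have hA := WittGrp.natCast_eq_zero_of_over p hR (sk k)
    have hsurj := (eq_one_or_surjective p k (f ≫ WittGrp.R p (Spec (B k)) h1)).resolve_left hf
    haveI : IsMonHom (f ≫ WittGrp.R p (Spec (B k)) h1) := inferInstance
    have hV1 := comp_V_eq_one p (B k) hR (n + 1) (f ≫ WittGrp.R p (Spec (B k)) h1)
    have hv : TruncatedWittVector.truncate h1 (vec (WittGrp.V p (Spec (B k)) (Nat.le_succ (n + 1)) ≫ f)) = 0 := by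
      rw [← vec_R, Category.assoc, hV1, vec_one]
    obtain ⟨w, hw⟩ := exists_shift_eq p (Nat.le_succ (n + 1)) (vec (WittGrp.V p (Spec (B k)) (Nat.le_succ (n + 1)) ≫ f)) (fun i hi => by
      have h := congrArg (fun v => TruncatedWittVector.coeff (p := p) (0 : Fin 1) v) hv
      simp only [TruncatedWittVector.coeff_truncate, TruncatedWittVector.coeff_zero] at h
      rwa [show i = Fin.castLE h1 0 from Fin.ext (show (i : ℕ) = 0 by omega)])
    let f' : WittGrp.W p (n + 1) (Spec (B k)) ⟶ WittGrp.W p (n + 1) (Spec (B k)) := ofVec w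
    have hf' : f' ≫ WittGrp.V p (Spec (B k)) (Nat.le_succ (n + 1)) = WittGrp.V p (Spec (B k)) (Nat.le_succ (n + 1)) ≫ f :=
      vec_injective (by rw [vec_V, vec_ofVec, hw])
    have hVV : ∀ {T : Over (Spec (B k))} (y : T ⟶ WittGrp.W p (n + 1) (Spec (B k))),
        WittGrp.shift p (Nat.le_succ (n + 1)) (vec (y ≫ f')) =
          vec ((y ≫ WittGrp.V p (Spec (B k)) (Nat.le_succ (n + 1))) ≫ f) := fun y => by
      rw [← vec_V, Category.assoc, hf', Category.assoc]
    haveI : IsMonHom f' := isMonHom_of_vec fun T x y => shift_injective p (Nat.le_succ (n + 1)) (by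
      rw [map_add, hVV, hVV, hVV, ← vec_comp_mul, MonObj.mul_comp])
    have hlead : f' ≫ WittGrp.R p (Spec (B k)) (Nat.le_add_left 1 n) ≠ 1 := by
      intro h0
      obtain ⟨t, ht⟩ := exists_pt_ne_one p k
      obtain ⟨x, hx⟩ := hsurj t
      have hpx : TruncatedWittVector.truncate h1 (vec (x ^ p)) = 0 := by
        rw [vec_pow, map_nsmul]
        exact nsmul_prime_of_one p hA _
      obtain ⟨y, hy⟩ := exists_shift_eq p (Nat.le_succ (n + 1)) (vec (x ^ p)) (fun i hi => by
        have h := congrArg (fun v => TruncatedWittVector.coeff (p := p) (0 : Fin 1) v) hpx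
        simp only [TruncatedWittVector.coeff_truncate, TruncatedWittVector.coeff_zero] at h
        rwa [show i = Fin.castLE h1 0 from Fin.ext (show (i : ℕ) = 0 by omega)])
      have h2 := hVV (ofVec y : sk k ⟶ _)
      rw [show ofVec y ≫ WittGrp.V p (Spec (B k)) (Nat.le_succ (n + 1)) = x ^ p from vec_injective (by rw [vec_V, vec_ofVec, hy]),
        vec_comp_pow] at h2
      have h3 := congrArg (fun v => TruncatedWittVector.coeff (p := p) (⟨1, by omega⟩ : Fin (n + 2)) v) h2
      simp only [WittGrp.coeff_shift] at h3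
      have h5 : vec ((ofVec y ≫ f') ≫ WittGrp.R p (Spec (B k)) (Nat.le_add_left 1 n)) = 0 := by
        rw [Category.assoc, h0, MonObj.comp_one, vec_one]
      have h6 := congrArg (fun v => TruncatedWittVector.coeff (p := p) (0 : Fin 1) v) h5
      simp only [vec_R, TruncatedWittVector.coeff_truncate, TruncatedWittVector.coeff_zero] at h6
      rw [dif_pos (show n + 1 + 1 - (n + 1) ≤ 1 by omega)] at h3
      rw [show (⟨1 - (n + 1 + 1 - (n + 1)), by omega⟩ : Fin (n + 1)) = Fin.castLE (Nat.le_add_left 1 n) 0 from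
        Fin.ext (show 1 - (n + 1 + 1 - (n + 1)) = 0 by omega), h6] at h3
      have h7 := coeff_nsmul_prime_pow p hA 1 (vec (x ≫ f)) (⟨1, by omega⟩ : Fin (n + 2))
      rw [pow_one, dif_pos le_rfl] at h7
      rw [h7] at h3
      haveI : IsReduced Γ((sk k).left, ⊤) := isReduced_of_injective (Scheme.ΓSpecIso (CommRingCat.of k)).hom.hom
        (ConcreteCategory.bijective_of_isIso (Scheme.ΓSpecIso (CommRingCat.of k)).hom).1
      have h8 := eq_zero_of_pow_eq_zero h3.symm
      refine ht (vec_injective (TruncatedWittVector.ext fun i => ?_))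
      rw [← hx, ← Category.assoc, vec_R, vec_one, TruncatedWittVector.coeff_zero, TruncatedWittVector.coeff_truncate,
        ← h8]
      congr 1
      exact Fin.ext (show (i : ℕ) = 1 - 1 by omega)
    obtain ⟨hs', hk'⟩ := ih f' hlead
    constructor
    · intro t
      obtain ⟨x, hx⟩ := hsurj (t ≫ WittGrp.R p (Spec (B k)) h1)
      have hd : TruncatedWittVector.truncate h1 (vec (t * (x ≫ f)⁻¹)) = 0 := by
        rw [vec_mul, vec_inv, map_add, map_neg, ← vec_R, ← vec_R, Category.assoc, hx, add_neg_cancel]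
      obtain ⟨v, hv'⟩ := exists_shift_eq p (Nat.le_succ (n + 1)) (vec (t * (x ≫ f)⁻¹)) (fun i hi => by
        have h := congrArg (fun v => TruncatedWittVector.coeff (p := p) (0 : Fin 1) v) hd
        simp only [TruncatedWittVector.coeff_truncate, TruncatedWittVector.coeff_zero] at h
        rwa [show i = Fin.castLE h1 0 from Fin.ext (show (i : ℕ) = 0 by omega)])
      obtain ⟨y, hy⟩ := hs' (ofVec v)
      refine ⟨(y ≫ WittGrp.V p (Spec (B k)) (Nat.le_succ (n + 1))) * x, ?_⟩
      rw [MonObj.mul_comp, show (y ≫ WittGrp.V p (Spec (B k)) (Nat.le_succ (n + 1))) ≫ f = t * (x ≫ f)⁻¹ from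
        vec_injective (by rw [← hVV, hy, vec_ofVec, hv']), inv_mul_cancel_right]
    · -- the leading components of the kernel lie in a finite set
      obtain ⟨g, hg, hg'⟩ := factor_R_of_comp_V (d := n + 1) (by omega) (Nat.le_succ (n + 1)) h1
        (f ≫ WittGrp.R p (Spec (B k)) h1) hV1
      have hgne : g ≠ 1 := fun h => hf (by rw [← hg', h, MonObj.comp_one])
      have hfin := finite_pts_ker_one p k g hgne
      refine Set.Finite.subset ((hfin.biUnion (t := fun t =>
        {x : sk k ⟶ WittGrp.W p (n + 2) (Spec (B k)) | x ≫ f = 1 ∧ x ≫ WittGrp.R p (Spec (B k)) h1 = t}) fun t _ => ?_)) ?_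
      · rcases Set.eq_empty_or_nonempty
          {x : sk k ⟶ WittGrp.W p (n + 2) (Spec (B k)) | x ≫ f = 1 ∧ x ≫ WittGrp.R p (Spec (B k)) h1 = t} with he | ⟨x₀, hx₀⟩
        · rw [he]; exact Set.finite_empty
        refine (hk'.image (fun y => (y ≫ WittGrp.V p (Spec (B k)) (Nat.le_succ (n + 1))) * x₀)).subset ?_
        rintro x ⟨hx, hxt⟩
        have hd : TruncatedWittVector.truncate h1 (vec (x * x₀⁻¹)) = 0 := by
          rw [vec_mul, vec_inv, map_add, map_neg, ← vec_R, ← vec_R, hxt, hx₀.2, add_neg_cancel]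
        obtain ⟨v, hv'⟩ := exists_shift_eq p (Nat.le_succ (n + 1)) (vec (x * x₀⁻¹)) (fun i hi => by
          have h := congrArg (fun v => TruncatedWittVector.coeff (p := p) (0 : Fin 1) v) hd
          simp only [TruncatedWittVector.coeff_truncate, TruncatedWittVector.coeff_zero] at h
          rwa [show i = Fin.castLE h1 0 from Fin.ext (show (i : ℕ) = 0 by omega)])
        have e : ofVec v ≫ WittGrp.V p (Spec (B k)) (Nat.le_succ (n + 1)) = x * x₀⁻¹ :=
          vec_injective (by rw [vec_V, vec_ofVec, hv'])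
        refine ⟨ofVec v, vec_injective (shift_injective p (Nat.le_succ (n + 1)) ?_), ?_⟩
        · rw [hVV, e, MonObj.mul_comp, GrpObj.inv_comp, hx, hx₀.1, inv_one, _root_.one_mul, vec_one, vec_one, map_zero]
        · simp only [e, inv_mul_cancel_right]
      · intro x hx
        refine Set.mem_biUnion (x := x ≫ WittGrp.R p (Spec (B k)) h1) ?_ ⟨hx, rfl⟩
        show (x ≫ _) ≫ g = 1
        rw [Category.assoc, hg', ← Category.assoc, hx, MonObj.one_comp]

/-- Isogenies of Witt groups are the endomorphisms with nontrivial leading part. -/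
theorem isogeny_iff (n : ℕ) (f : WittGrp.W p (n + 1) (Spec (B k)) ⟶ WittGrp.W p (n + 1) (Spec (B k))) [IsMonHom f] :
    SGA7.IsIsogenyOver f ↔ f ≫ WittGrp.R p (Spec (B k)) (Nat.le_add_left 1 n) ≠ 1 := by
  haveI : IsNoetherianRing (B k) := inferInstanceAs (IsNoetherianRing k)
  constructor
  · rintro ⟨hs, -⟩ h0
    obtain ⟨t, ht⟩ := exists_pt_ne_one p k
    obtain ⟨v, hv⟩ : ∃ v : sk k ⟶ WittGrp.W p (n + 1) (Spec (B k)), v ≫ WittGrp.R p (Spec (B k)) (Nat.le_add_left 1 n) = t := by
      refine ⟨ofVec (TruncatedWittVector.mk p fun i => if (i : ℕ) = 0 then (vec t).coeff 0 else 0), vec_injective ?_⟩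
      rw [vec_R, vec_ofVec]
      refine TruncatedWittVector.ext fun i => ?_
      rw [TruncatedWittVector.coeff_truncate, TruncatedWittVector.coeff_mk, if_pos (by simp)]
      rw [Subsingleton.elim i 0]
    obtain ⟨x, hx⟩ := hs.surj (v.left (IsLocalRing.closedPoint k))
    haveI : JacobsonSpace (WittGrp.W p (n + 1) (Spec (B k))).left :=
      LocallyOfFiniteType.jacobsonSpace (WittGrp.W p (n + 1) (Spec (B k))).hom
    obtain ⟨z, hz, hzc⟩ := nonempty_inter_closedPoints ⟨x, Set.mem_preimage.2 (Set.mem_singleton_iff.2 hx)⟩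
      ((isClosed_pt k v).preimage f.left.continuous).isLocallyClosed
    obtain ⟨s, hs'⟩ := PtsDetect19.exists_point (k := k) k z hzc
    have e : s ≫ f = v := pt_ext k (by rw [Over.comp_left, Scheme.Hom.comp_apply, hs']; exact hz)
    exact ht (by rw [← hv, ← e, Category.assoc, h0, MonObj.comp_one])
  · intro hf
    obtain ⟨hs, hk⟩ := pts_of_leading p k n f hf
    haveI : LocallyOfFiniteType (f.left ≫ (WittGrp.W p (n + 1) (Spec (B k))).hom) := by rw [Over.w f]; infer_instance
    haveI : LocallyOfFiniteType f.left := locallyOfFiniteType_of_comp f.left (WittGrp.W p (n + 1) (Spec (B k))).hom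
    haveI : IsLocallyNoetherian (WittGrp.W p (n + 1) (Spec (B k))).left :=
      LocallyOfFiniteType.isLocallyNoetherian (WittGrp.W p (n + 1) (Spec (B k))).hom
    haveI : LocallyOfFinitePresentation f.left := LocallyOfFinitePresentation.iff_locallyOfFiniteType.2 inferInstance
    haveI : QuasiCompact (f.left ≫ (WittGrp.W p (n + 1) (Spec (B k))).hom) := by rw [Over.w f]; infer_instance
    haveI : QuasiCompact f.left := QuasiCompact.of_comp f.left (WittGrp.W p (n + 1) (Spec (B k))).hom
    haveI : JacobsonSpace (WittGrp.W p (n + 1) (Spec (B k))).left :=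
      LocallyOfFiniteType.jacobsonSpace (WittGrp.W p (n + 1) (Spec (B k))).hom
    refine ⟨ConstrPt19.surjective_of_closedPoints f.left fun y hy => ?_, fun N i hN => ?_⟩
    · obtain ⟨t, ht⟩ := PtsDetect19.exists_point (k := k) k y hy
      obtain ⟨x, hx⟩ := hs t
      exact ⟨x.left (IsLocalRing.closedPoint k), by
        rw [← ht (IsLocalRing.closedPoint k), ← Scheme.Hom.comp_apply, ← Over.comp_left, hx]⟩
    · haveI : IsClosedImmersion (η[WittGrp.W p (n + 1) (Spec (B k))]).left := isClosedImmersion_unit p k _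
      haveI : IsClosedImmersion i.left :=
        MorphismProperty.of_isPullback (P := @IsClosedImmersion) (hN.map (Over.forget _)).flip ‹IsClosedImmersion (η[WittGrp.W p (n + 1) (Spec (B k))]).left›
      haveI : IsAffineHom N.hom := by rw [← Over.w i]; infer_instance
      haveI : LocallyOfFiniteType N.hom := by rw [← Over.w i]; infer_instance
      haveI : QuasiCompact N.hom := inferInstance
      haveI : JacobsonSpace N.left := LocallyOfFiniteType.jacobsonSpace N.hom
      haveI : Mono i.left := inferInstance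
      haveI : Mono i := Over.mono_of_mono_left i
      have hpts : (Set.range fun s : sk k ⟶ N => s.left (IsLocalRing.closedPoint k)).Finite := by
        have h1 : (Set.univ : Set (sk k ⟶ N)).Finite :=
          Set.Finite.of_finite_image (f := fun s => s ≫ i) (hk.subset (by
            rintro _ ⟨s, -, rfl⟩
            show (s ≫ i) ≫ f = 1
            rw [Category.assoc, hN.w, ← Category.assoc, toUnit_unique (s ≫ toUnit N) (toUnit _)]
            rfl)) fun a _ b _ h => (cancel_mono i).1 h
        rw [← Set.image_univ]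
        exact h1.image _
      have hclosed : (closedPoints N.left).Finite := hpts.subset fun z hz => by
        obtain ⟨s, hs⟩ := PtsDetect19.exists_point (k := k) k z hz
        exact ⟨s, hs _⟩
      haveI : Finite N.left := by
        have h1 : IsClosed (closedPoints N.left) := by
          rw [← Set.biUnion_of_singleton (closedPoints N.left)]
          exact hclosed.isClosed_biUnion fun z hz => hz
        have h2 : closedPoints N.left = Set.univ := h1.closure_eq.symm.trans closure_closedPoints
        exact Set.finite_univ_iff.1 (h2 ▸ hclosed)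
      haveI : LocallyQuasiFinite N.hom := LocallyQuasiFinite.of_finite_preimage_singleton _ fun _ => Set.toFinite _
      haveI : IsArtinianRing (B k) := inferInstanceAs (IsArtinianRing k)
      exact IsFinite.of_locallyQuasiFinite N.hom

theorem exists_lift_R_iff (n : ℕ) (f : WittGrp.W p (n + 1) (Spec (B k)) ⟶ WittGrp.W p (n + 1) (Spec (B k))) [IsMonHom f] :
    (∃ g : WittGrp.W p (n + 1) (Spec (B k)) ⟶ WittGrp.W p (n + 1 + 1) (Spec (B k)), IsMonHom g ∧
      g ≫ WittGrp.R p (Spec (B k)) (Nat.le_add_right (n + 1) 1) = f) ↔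
      f ≫ WittGrp.R p (Spec (B k)) (Nat.le_add_left 1 n) = 1 := by
  have hR := natCast_base p k
  constructor
  · rintro ⟨g, hg, rfl⟩
    have hA := WittGrp.natCast_eq_zero_of_over p hR (WittGrp.W p (n + 1) (Spec (B k)))
    haveI := isReduced_coordRing p (n + 1) (B k)
    have h1 : vec (((𝟙 (WittGrp.W p (n + 1) (Spec (B k)))) ^ p ^ (n + 1)) ≫ g) = 0 := by
      rw [show (𝟙 (WittGrp.W p (n + 1) (Spec (B k)))) ^ p ^ (n + 1) = 1 from vec_injective (TruncatedWittVector.ext fun i => by
        rw [vec_pow, coeff_nsmul_prime_pow p hA, dif_neg (by omega), vec_one, TruncatedWittVector.coeff_zero]), vec_comp_one]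
    rw [vec_comp_pow, Category.id_comp] at h1
    refine vec_injective (TruncatedWittVector.ext fun i => ?_)
    rw [vec_R, vec_R, vec_one, TruncatedWittVector.coeff_truncate, TruncatedWittVector.coeff_truncate, TruncatedWittVector.coeff_zero]
    have h2 := congrArg (fun v => TruncatedWittVector.coeff (p := p) (⟨n + 1, by omega⟩ : Fin (n + 1 + 1)) v) h1
    simp only [coeff_nsmul_prime_pow p hA, TruncatedWittVector.coeff_zero] at h2
    rw [dif_pos le_rfl] at h2
    refine Eq.trans ?_ (eq_zero_of_pow_eq_zero h2)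
    congr 1
    exact Fin.ext (show (i : ℕ) = n + 1 - (n + 1) by omega)
  · intro h0
    have hv : TruncatedWittVector.truncate (Nat.le_add_left 1 n) (vec f) = 0 := by rw [← vec_R, h0, vec_one]
    obtain ⟨w, hw⟩ := exists_shift_eq p (Nat.le_succ n) (vec f) (fun i hi => by
      have h := congrArg (fun v => TruncatedWittVector.coeff (p := p) (0 : Fin 1) v) hv
      simp only [TruncatedWittVector.coeff_truncate, TruncatedWittVector.coeff_zero] at h
      rwa [show i = Fin.castLE (Nat.le_add_left 1 n) 0 from Fin.ext (show (i : ℕ) = 0 by omega)])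
    let ψ : WittGrp.W p (n + 1) (Spec (B k)) ⟶ WittGrp.W p n (Spec (B k)) := ofVec w
    have hψ : ψ ≫ WittGrp.V p (Spec (B k)) (Nat.le_succ n) = f := vec_injective (by rw [vec_V, vec_ofVec, hw])
    have hψ' : ∀ {T : Over (Spec (B k))} (x : T ⟶ WittGrp.W p (n + 1) (Spec (B k))),
        WittGrp.shift p (Nat.le_succ n) (vec (x ≫ ψ)) = vec (x ≫ f) := fun x => by
      rw [← vec_V, Category.assoc, hψ]
    haveI : IsMonHom ψ := isMonHom_of_vec fun T x y => shift_injective p (Nat.le_succ n) (by
      rw [map_add, hψ', hψ', hψ', vec_comp_mul])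
    obtain ⟨χ, hχ, hχ'⟩ := factor_R_of_comp_V (d := 1) rfl (Nat.le_add_left 1 n) (Nat.le_succ n) ψ (comp_V_last n ψ)
    obtain ⟨⟨Ψ, hΨ, hΨ'⟩, -⟩ := exists_extensions p k n χ (n + 1) (Nat.le_succ n)
    refine ⟨Ψ ≫ WittGrp.V p (Spec (B k)) (Nat.le_succ (n + 1)), inferInstance, ?_⟩
    rw [← hψ, ← hχ', hΨ', Category.assoc, Category.assoc]
    congr 1
    exact V_comp_R _ _ _ _

theorem exists_ext_V_iff (n : ℕ) (g : WittGrp.W p (n + 1) (Spec (B k)) ⟶ WittGrp.W p (n + 1) (Spec (B k))) [IsMonHom g] :
    (∃ g' : WittGrp.W p (n + 1 + 1) (Spec (B k)) ⟶ WittGrp.W p (n + 1) (Spec (B k)), IsMonHom g' ∧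
      WittGrp.V p (Spec (B k)) (Nat.le_add_right (n + 1) 1) ≫ g' = g) ↔
      g ≫ WittGrp.R p (Spec (B k)) (Nat.le_add_left 1 n) = 1 := by
  have hR := natCast_base p k
  constructor
  · rintro ⟨g', hg', rfl⟩
    haveI : IsMonHom (g' ≫ WittGrp.R p (Spec (B k)) (Nat.le_add_left 1 n)) := inferInstance
    rw [Category.assoc]
    exact comp_V_eq_one p (B k) hR (n + 1) _
  · intro h0
    have hv : TruncatedWittVector.truncate (Nat.le_add_left 1 n) (vec g) = 0 := by rw [← vec_R, h0, vec_one]
    obtain ⟨w, hw⟩ := exists_shift_eq p (Nat.le_succ n) (vec g) (fun i hi => by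
      have h := congrArg (fun v => TruncatedWittVector.coeff (p := p) (0 : Fin 1) v) hv
      simp only [TruncatedWittVector.coeff_truncate, TruncatedWittVector.coeff_zero] at h
      rwa [show i = Fin.castLE (Nat.le_add_left 1 n) 0 from Fin.ext (show (i : ℕ) = 0 by omega)])
    let ψ : WittGrp.W p (n + 1) (Spec (B k)) ⟶ WittGrp.W p n (Spec (B k)) := ofVec w
    have hψ : ψ ≫ WittGrp.V p (Spec (B k)) (Nat.le_succ n) = g := vec_injective (by rw [vec_V, vec_ofVec, hw])
    have hψ' : ∀ {T : Over (Spec (B k))} (x : T ⟶ WittGrp.W p (n + 1) (Spec (B k))),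
        WittGrp.shift p (Nat.le_succ n) (vec (x ≫ ψ)) = vec (x ≫ g) := fun x => by
      rw [← vec_V, Category.assoc, hψ]
    haveI : IsMonHom ψ := isMonHom_of_vec fun T x y => shift_injective p (Nat.le_succ n) (by
      rw [map_add, hψ', hψ', hψ', vec_comp_mul])
    obtain ⟨χ, hχ, hχ'⟩ := factor_R_of_comp_V (d := 1) rfl (Nat.le_add_left 1 n) (Nat.le_succ n) ψ (comp_V_last n ψ)
    obtain ⟨-, ⟨τ, hτ, hτ'⟩⟩ := exists_extensions p k n χ (n + 1) (Nat.le_succ n)
    refine ⟨WittGrp.R p (Spec (B k)) (Nat.le_succ (n + 1)) ≫ τ, inferInstance, ?_⟩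
    rw [← hψ, ← hχ', Category.assoc, hτ', ← Category.assoc, ← Category.assoc]
    congr 1
    exact V_comp_R _ _ _ _

end Groth.Agent.WittHom23
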