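import Groth.Agent.Lib.WittHom23.Basic

/-!
# Factorisation of homomorphisms to and from `W_1`
-/

set_option autoImplicit false

universe u

open CategoryTheory AlgebraicGeometry MonObj MonoidalCategory CartesianMonoidalCategory

noncomputable section

namespace Groth.Agent.WittHom23

variable (p : ℕ) [hp : Fact p.Prime] (R : CommRingCat.{u}) [IsDomain R] (hR : (p : Γ(Spec R, ⊤)) = 0)

include hR in
theorem factor_V (m n : ℕ) (hm : 0 < m) (f : WittGrp.W p 1 (Spec R) ⟶ WittGrp.W p (m + n) (Spec R)) [IsMonHom f] :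
    ∃! g : WittGrp.W p 1 (Spec R) ⟶ WittGrp.W p m (Spec R),
      IsMonHom g ∧ g ≫ WittGrp.V p (Spec R) (Nat.le_add_right m n) = f := by
  haveI := isReduced_coordRing p 1 R
  have h0 : (p : Γ((WittGrp.W p 1 (Spec R)).left, ⊤)) = 0 := WittGrp.natCast_eq_zero_of_over p hR _
  have hpv : p • vec f = 0 := by
    have h := vec_comp_pow (f := f) (𝟙 (WittGrp.W p 1 (Spec R))) p
    rw [Category.id_comp] at h
    rw [← h, show (𝟙 (WittGrp.W p 1 (Spec R))) ^ p = 1 from vec_injective (by
      rw [vec_pow, vec_one]; exact nsmul_prime_of_one p h0 _), vec_comp_one]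
  obtain ⟨w, hw⟩ := exists_shift_eq p (Nat.le_add_right m n) (vec f)
    (fun i hi => coeff_eq_zero_of_nsmul_prime p h0 hpv i (by omega))
  have hg : ofVec w ≫ WittGrp.V p (Spec R) (Nat.le_add_right m n) = f :=
    vec_injective (by rw [vec_V, vec_ofVec, hw])
  refine ⟨ofVec w, ⟨isMonHom_of_vec fun T x y => shift_injective p (Nat.le_add_right m n) ?_, hg⟩, ?_⟩
  · rw [map_add, ← vec_V, ← vec_V, ← vec_V, Category.assoc, Category.assoc, Category.assoc, hg, vec_comp_mul]
  · rintro g' ⟨-, hg'⟩
    rw [← ofVec_vec g']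
    refine congrArg ofVec (shift_injective p (Nat.le_add_right m n) ?_)
    rw [hw, ← vec_V, hg']

include hR in
/-- A homomorphism to `W_1` kills the image of the shift. -/
theorem comp_V_eq_one (n : ℕ) (f : WittGrp.W p (n + 1) (Spec R) ⟶ WittGrp.W p 1 (Spec R)) [IsMonHom f] :
    WittGrp.V p (Spec R) (Nat.le_succ n) ≫ f = 1 := by
  -- first after restriction and Frobenius
  let Fr := WittGrp.F p (n + 1) (Spec R) hR
  let VR := WittGrp.R p (Spec R) (Nat.le_succ n) ≫ WittGrp.V p (Spec R) (Nat.le_succ n)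
  have hpid : (𝟙 (WittGrp.W p (n + 1) (Spec R))) ^ p = Fr ≫ VR := vec_injective (by
    rw [vec_pow, ← Category.id_comp (Fr ≫ VR), ← Category.assoc, ← Category.assoc, vec_V, vec_R]
    simp only [vec, Fr, WittGrp.pts_F]
    rw [nsmul_prime_eq p (WittGrp.natCast_eq_zero_of_over p hR _)]
    refine TruncatedWittVector.ext fun i => ?_
    simp only [TruncatedWittVector.coeff_truncate, WittGrp.coeff_shift, WittGrp.coeff_frob, Fin.val_castLE]
    split_ifs <;> first | rfl | omega | (congr 2; exact Fin.ext (by simp)))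
  have h1 : vec (Fr ≫ VR ≫ f) = 0 := by
    rw [← Category.assoc, ← hpid, vec_comp_pow, Category.id_comp]
    exact nsmul_prime_of_one p (WittGrp.natCast_eq_zero_of_over p hR _) _
  have h2 : vec (VR ≫ f) = 0 := by
    refine TruncatedWittVector.ext fun i => appTop_F_injective p (n + 1) R hR ?_
    rw [vec_comp] at h1
    have h3 := congrArg (fun v => TruncatedWittVector.coeff (p := p) i v) h1
    simp only [WittGrp.coeff_truncMap, TruncatedWittVector.coeff_zero] at h3
    rw [TruncatedWittVector.coeff_zero, map_zero]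
    exact h3
  let s : WittGrp.W p n (Spec R) ⟶ WittGrp.W p (n + 1) (Spec R) := ofVec (TruncatedWittVector.mk p fun i =>
    if hi : (i : ℕ) < n then (vec (𝟙 (WittGrp.W p n (Spec R)))).coeff ⟨i, hi⟩ else 0)
  have hs : s ≫ WittGrp.R p (Spec R) (Nat.le_succ n) = 𝟙 _ := vec_injective (by
    rw [vec_R, vec_ofVec]
    refine TruncatedWittVector.ext fun i => ?_
    rw [TruncatedWittVector.coeff_truncate, TruncatedWittVector.coeff_mk, dif_pos (by simp)]
    rfl)
  have h4 : VR ≫ f = 1 := vec_injective (by rw [h2, vec_one])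
  rw [← Category.id_comp (WittGrp.V p (Spec R) _ ≫ f), ← hs, Category.assoc, ← Category.assoc (WittGrp.R p (Spec R) _),
    show (WittGrp.R p (Spec R) (Nat.le_succ n) ≫ WittGrp.V p (Spec R) (Nat.le_succ n)) ≫ f = 1 from h4, MonObj.comp_one]

include hR in
theorem comp_V_eq_one' (n : ℕ) {N : ℕ} (hN : N = n + 1) (h : n ≤ N)
    (f : WittGrp.W p N (Spec R) ⟶ WittGrp.W p 1 (Spec R)) [IsMonHom f] :
    WittGrp.V p (Spec R) h ≫ f = 1 := by
  subst hN
  exact comp_V_eq_one p R hR n f

include hR in
theorem factor_R (m n : ℕ) (hm : 0 < m) (f : WittGrp.W p (m + n) (Spec R) ⟶ WittGrp.W p 1 (Spec R)) [IsMonHom f] :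
    ∃! g : WittGrp.W p m (Spec R) ⟶ WittGrp.W p 1 (Spec R),
      IsMonHom g ∧ WittGrp.R p (Spec R) (Nat.le_add_right m n) ≫ g = f := by
  obtain ⟨l, hl⟩ : ∃ l, m + n = l + 1 := ⟨m + n - 1, by omega⟩
  -- `f` is invariant under the kernel of restriction
  have hker : ∀ (T : Over (Spec R)) (x y : T ⟶ WittGrp.W p (m + n) (Spec R)),
      x ≫ WittGrp.R p (Spec R) (Nat.le_add_right m n) = y ≫ WittGrp.R p (Spec R) (Nat.le_add_right m n) → x ≫ f = y ≫ f := by
    intro T x y hxy
    have hd : TruncatedWittVector.truncate (Nat.le_add_right m n) (vec (x * y⁻¹)) = 0 := by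
      rw [vec_mul, vec_inv, map_add, map_neg, ← vec_R, ← vec_R, hxy, add_neg_cancel]
    generalize hd' : x * y⁻¹ = d at hd
    have hfd : d ≫ f = 1 := by
      obtain ⟨w, hw⟩ := exists_shift_eq p (show l ≤ m + n by omega) (vec d) (fun i hi => by
        have h := congrArg (fun v => TruncatedWittVector.coeff (p := p) (⟨i, by omega⟩ : Fin m) v) hd
        simp only [TruncatedWittVector.coeff_truncate, TruncatedWittVector.coeff_zero] at h
        exact h)
      rw [show d = ofVec w ≫ WittGrp.V p (Spec R) (show l ≤ m + n by omega) from vec_injective (by rw [vec_V, vec_ofVec, hw]),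
        Category.assoc, comp_V_eq_one' p R hR l hl (by omega) f, MonObj.comp_one]
    rw [show x = d * y by rw [← hd', inv_mul_cancel_right], MonObj.mul_comp, hfd, _root_.one_mul]
  let s : WittGrp.W p m (Spec R) ⟶ WittGrp.W p (m + n) (Spec R) := ofVec (TruncatedWittVector.mk p fun i =>
    if hi : (i : ℕ) < m then (vec (𝟙 (WittGrp.W p m (Spec R)))).coeff ⟨i, hi⟩ else 0)
  have hs : s ≫ WittGrp.R p (Spec R) (Nat.le_add_right m n) = 𝟙 _ := vec_injective (by
    rw [vec_R, vec_ofVec]
    refine TruncatedWittVector.ext fun i => ?_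
    rw [TruncatedWittVector.coeff_truncate, TruncatedWittVector.coeff_mk, dif_pos (by simp)]
    rfl)
  refine ⟨s ≫ f, ⟨isMonHom_of_vec fun T x y => ?_, eq_of_comp_eq fun T x => ?_⟩, ?_⟩
  · rw [← Category.assoc, ← Category.assoc, ← Category.assoc, ← vec_comp_mul]
    refine congrArg vec (hker T _ _ (vec_injective ?_))
    simp only [Category.assoc, hs, Category.comp_id, vec_R, vec_mul, map_add]
    rw [← vec_R, ← vec_R, Category.assoc, Category.assoc, hs, Category.comp_id, Category.comp_id]
  · rw [← Category.assoc, ← Category.assoc]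
    exact hker T _ _ (by simp only [Category.assoc, hs, Category.comp_id])
  · rintro g' ⟨-, hg'⟩
    rw [← hg', ← Category.assoc, hs, Category.id_comp]

end Groth.Agent.WittHom23
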