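import Groth.Agent.Lib.WittHom23.Lift
import Groth.Agent.Lib.PtsDetect19.Basic
import Groth.Agent.Lib.ConstrPt19.Basic
import Groth.Agent.Lib.AbRigid.SmoothGI
import Mathlib.AlgebraicGeometry.AlgClosed.Basic
import Mathlib.AlgebraicGeometry.Noetherian
import Mathlib.Algebra.Polynomial.FieldDivision

/-!
# Connected smooth subgroups of Witt groups
-/

set_option autoImplicit false
set_option backward.isDefEq.respectTransparency.types false

universe u

open CategoryTheory AlgebraicGeometry MonObj MonoidalCategory CartesianMonoidalCategory TopologicalSpace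

noncomputable section

namespace Groth.Agent.WittHom23

variable (p : ℕ) [hp : Fact p.Prime] (k : Type u) [Field k] [IsAlgClosed k]


/-- A rational point. -/
abbrev sk : Over (Spec (CommRingCat.of k)) := PtsDetect19.sp (k := k) k

instance isAffineHom_W (n : ℕ) : IsAffineHom (WittGrp.W p n (Spec (CommRingCat.of k))).hom :=
  inferInstanceAs (IsAffineHom (𝔸(ULift.{u} (Fin n); (Spec (CommRingCat.of k))) ↘ (Spec (CommRingCat.of k))))

instance lfp_W (n : ℕ) : LocallyOfFinitePresentation (WittGrp.W p n (Spec (CommRingCat.of k))).hom :=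
  inferInstanceAs (LocallyOfFinitePresentation (𝔸(ULift.{u} (Fin n); (Spec (CommRingCat.of k))) ↘ (Spec (CommRingCat.of k))))

instance isAffine_W (n : ℕ) : IsAffine (WittGrp.W p n (Spec (CommRingCat.of k))).left :=
  inferInstanceAs (IsAffine 𝔸(ULift.{u} (Fin n); (Spec (CommRingCat.of k))))

instance isReduced_W (n : ℕ) : AlgebraicGeometry.IsReduced (WittGrp.W p n (Spec (CommRingCat.of k))).left :=
  inferInstanceAs (AlgebraicGeometry.IsReduced 𝔸(ULift.{u} (Fin n); (Spec (CommRingCat.of k))))

instance irreducibleSpace_W (n : ℕ) : IrreducibleSpace ↥(WittGrp.W p n (Spec (CommRingCat.of k))).left :=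
  haveI : IrreducibleSpace ↥(Spec (CommRingCat.of k)) := inferInstanceAs (IrreducibleSpace (PrimeSpectrum k))
  inferInstanceAs (IrreducibleSpace ↥(𝔸(ULift.{u} (Fin n); (Spec (CommRingCat.of k)))))

/-- Rational points are determined by their images. -/
theorem pt_ext {X : Over (Spec (CommRingCat.of k))} [LocallyOfFiniteType X.hom] {x y : sk k ⟶ X}
    (h : x.left (IsLocalRing.closedPoint k) = y.left (IsLocalRing.closedPoint k)) : x = y := by
  have e : ∀ z : sk k ⟶ X, z.left ≫ X.hom = 𝟙 _ := fun z => by
    rw [Over.w z]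
    show Spec.map (CommRingCat.ofHom (algebraMap k k)) = _
    rw [show CommRingCat.ofHom (algebraMap k k) = 𝟙 _ from rfl, Spec.map_id]; rfl
  exact Over.OverMorphism.ext (ext_of_apply_closedPoint_eq X.hom (e x) (e y) h)

/-- Rational points are closed. -/
theorem isClosed_pt {X : Over (Spec (CommRingCat.of k))} [LocallyOfFiniteType X.hom] [IsSeparated X.hom] (x : sk k ⟶ X) :
    IsClosed ({x.left (IsLocalRing.closedPoint k)} : Set X.left) := by
  have e : x.left ≫ X.hom = 𝟙 _ := by
    rw [Over.w x]
    show Spec.map (CommRingCat.ofHom (algebraMap k k)) = _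
    rw [show CommRingCat.ofHom (algebraMap k k) = 𝟙 _ from rfl, Spec.map_id]; rfl
  haveI : IsClosedImmersion (x.left ≫ X.hom) := by rw [e]; exact inferInstanceAs (IsClosedImmersion (𝟙 _))
  haveI := IsClosedImmersion.of_comp x.left X.hom
  have h := x.left.isClosedEmbedding.isClosed_range
  convert h
  refine (Set.eq_singleton_iff_unique_mem.2 ⟨Set.mem_range_self _, ?_⟩).symm
  rintro _ ⟨a, rfl⟩
  exact congrArg _ (Subsingleton.elim (α := PrimeSpectrum k) a _)

/-- A rational point as a global section. -/
def sec0 {X : Over (Spec (CommRingCat.of k))} (t : sk k ⟶ X) : 𝟙_ (Over (Spec (CommRingCat.of k))) ⟶ X :=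
  Over.homMk t.left (by
    rw [Over.w t]
    show Spec.map (CommRingCat.ofHom (algebraMap k k)) = 𝟙 _
    rw [show CommRingCat.ofHom (algebraMap k k) = 𝟙 _ from rfl, Spec.map_id])

theorem toUnit_sec0 {X : Over (Spec (CommRingCat.of k))} (t : sk k ⟶ X) : toUnit (sk k) ≫ sec0 k t = t := by
  refine Over.OverMorphism.ext ?_
  have h : (toUnit (sk k)).left = 𝟙 (Spec (CommRingCat.of k)) := by
    have := Over.w (toUnit (sk k))
    rw [show (𝟙_ (Over (Spec (CommRingCat.of k)))).hom = 𝟙 _ from rfl, Category.comp_id] at this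
    rw [this]
    show Spec.map (CommRingCat.ofHom (algebraMap k k)) = _
    rw [show CommRingCat.ofHom (algebraMap k k) = 𝟙 _ from rfl, Spec.map_id]
  rw [Over.comp_left, h]
  exact Category.id_comp _

theorem isClosedImmersion_unit (n : ℕ) : IsClosedImmersion (η[WittGrp.W p n (Spec (CommRingCat.of k))]).left := by
  haveI : IsClosedImmersion ((η[WittGrp.W p n (Spec (CommRingCat.of k))]).left ≫ (WittGrp.W p n (Spec (CommRingCat.of k))).hom) := by
    rw [Over.w η[WittGrp.W p n (Spec (CommRingCat.of k))]]; exact inferInstanceAs (IsClosedImmersion (𝟙 _))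
  exact IsClosedImmersion.of_comp _ (WittGrp.W p n (Spec (CommRingCat.of k))).hom

theorem shift_shift' {A : Type u} [CommRing A] {n b m : ℕ} (h1 : n ≤ b) (h2 : b ≤ m) (h : n ≤ m)
    (v : TruncatedWittVector p n A) : WittGrp.shift p h2 (WittGrp.shift p h1 v) = WittGrp.shift p h v :=
  TruncatedWittVector.ext fun i => by
    simp only [WittGrp.coeff_shift]
    split_ifs <;> first | rfl | omega | (congr 1; exact Fin.ext (by simp; omega))

theorem pow_comp' {C : Type*} [Category C] [CartesianMonoidalCategory C] {X Y Z : C} [MonObj Y] [MonObj Z]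
    (h : X ⟶ Y) (f : Y ⟶ Z) [IsMonHom f] (a : ℕ) : (h ^ a) ≫ f = (h ≫ f) ^ a := by
  induction a with
  | zero => rw [pow_zero, pow_zero, MonObj.one_comp]
  | succ a ih => rw [pow_succ, pow_succ, MonObj.mul_comp, ih]

/-- On the line, the points other than the generic one are closed. -/
theorem eq_genericPoint_or_isClosed (z : (WittGrp.W p 1 (Spec (CommRingCat.of k))).left) :
    z = genericPoint (WittGrp.W p 1 (Spec (CommRingCat.of k))).left ∨ IsClosed ({z} : Set (WittGrp.W p 1 (Spec (CommRingCat.of k))).left) := by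
  haveI : Unique (ULift.{u} (Fin 1)) := ⟨⟨⟨0⟩⟩, fun a => ULift.ext _ _ (Subsingleton.elim _ _)⟩
  let φ : (WittGrp.W p 1 (Spec (CommRingCat.of k))).left ≃ₜ PrimeSpectrum (Polynomial k) :=
    (Scheme.homeoOfIso (AffineSpace.SpecIso (ULift.{u} (Fin 1)) (CommRingCat.of k))).trans
      (PrimeSpectrum.homeomorphOfRingEquiv (MvPolynomial.uniqueAlgEquiv k (ULift.{u} (Fin 1))).toRingEquiv)
  by_cases h0 : (φ z).asIdeal = ⊥
  · left
    have h1 : IsGenericPoint (φ z) Set.univ := by
      rw [IsGenericPoint, PrimeSpectrum.closure_singleton, h0]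
      exact PrimeSpectrum.zeroLocus_bot
    have h2 := h1.image φ.symm.continuous
    rw [φ.symm_apply_apply, Set.image_univ, φ.symm.surjective.range_eq, closure_univ] at h2
    exact (genericPoint_spec _).eq (show IsGenericPoint z _ from h2) |>.symm
  · right
    have h1 : IsClosed ({φ z} : Set (PrimeSpectrum (Polynomial k))) :=
      (PrimeSpectrum.isClosed_singleton_iff_isMaximal _).2 ((φ z).isPrime.isMaximal h0)
    have h2 := h1.preimage φ.continuous
    rwa [← Set.image_singleton, φ.injective.preimage_image] at h2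

variable {H : Over (Spec (CommRingCat.of k))} [GrpObj H] [Smooth H.hom] [ConnectedSpace ↥H.left]

omit [IsAlgClosed k] in
theorem isReduced_of_smooth' : AlgebraicGeometry.IsReduced H.left :=
  AbRigid.isReduced_of_smooth_over_field H.hom

/-- A homomorphism from a connected group to the line is trivial or surjective on rational points. -/
theorem eq_one_or_surjective [QuasiCompact H.hom] (q : H ⟶ WittGrp.W p 1 (Spec (CommRingCat.of k))) [IsMonHom q] :
    q = 1 ∨ ∀ t : sk k ⟶ WittGrp.W p 1 (Spec (CommRingCat.of k)), ∃ h : sk k ⟶ H, h ≫ q = t := by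
  classical
  haveI : IsNoetherianRing (CommRingCat.of k) := inferInstanceAs (IsNoetherianRing k)
  haveI : LocallyOfFiniteType (q.left ≫ (WittGrp.W p 1 (Spec (CommRingCat.of k))).hom) := by rw [Over.w q]; infer_instance
  haveI : LocallyOfFiniteType q.left := locallyOfFiniteType_of_comp q.left (WittGrp.W p 1 (Spec (CommRingCat.of k))).hom
  haveI : IsLocallyNoetherian (WittGrp.W p 1 (Spec (CommRingCat.of k))).left :=
    LocallyOfFiniteType.isLocallyNoetherian (WittGrp.W p 1 (Spec (CommRingCat.of k))).hom
  haveI : LocallyOfFinitePresentation q.left := LocallyOfFinitePresentation.iff_locallyOfFiniteType.2 inferInstance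
  haveI : QuasiCompact (q.left ≫ (WittGrp.W p 1 (Spec (CommRingCat.of k))).hom) := by rw [Over.w q]; infer_instance
  haveI : QuasiCompact q.left := QuasiCompact.of_comp q.left (WittGrp.W p 1 (Spec (CommRingCat.of k))).hom
  haveI : IsLocallyNoetherian H.left := LocallyOfFiniteType.isLocallyNoetherian H.hom
  haveI : CompactSpace H.left := QuasiCompact.compactSpace_of_compactSpace H.hom
  haveI : IsNoetherian H.left := ⟨⟩
  haveI : JacobsonSpace H.left := LocallyOfFiniteType.jacobsonSpace H.hom
  set η₁ := genericPoint (WittGrp.W p 1 (Spec (CommRingCat.of k))).left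
  by_cases hg : η₁ ∈ Set.range q.left
  · right
    have hc : Topology.IsConstructible (Set.range q.left) := by
      rw [← Set.image_univ]
      exact q.left.isConstructible_image Topology.IsConstructible.univ
    obtain ⟨Z, hZ, hηZ, hsub | hsub⟩ := ConstrPt19.exists_isLocallyClosed hc η₁
    swap
    · exact absurd hg (hsub hηZ)
    obtain ⟨U, C, hU, hC, rfl⟩ := hZ
    have hCu : C = Set.univ := Set.univ_subset_iff.1
      ((genericPoint_spec _).def.symm.le.trans (closure_minimal (Set.singleton_subset_iff.2 hηZ.2) hC) |>.trans subset_rfl)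
    rw [hCu, Set.inter_univ] at hsub hηZ
    -- every rational point of the line in `U` lifts
    have hlift : ∀ t : sk k ⟶ WittGrp.W p 1 (Spec (CommRingCat.of k)), t.left (IsLocalRing.closedPoint k) ∈ U →
        ∃ h : sk k ⟶ H, h ≫ q = t := by
      intro t ht
      have hcl : IsClosed ({t.left (IsLocalRing.closedPoint k)} : Set (WittGrp.W p 1 (Spec (CommRingCat.of k))).left) := by
        rcases eq_genericPoint_or_isClosed p k (t.left (IsLocalRing.closedPoint k)) with h | h
        · exact isClosed_pt k t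
        · exact h
      obtain ⟨x, hx⟩ := hsub ht
      obtain ⟨z, hz, hzc⟩ := nonempty_inter_closedPoints ⟨x, Set.mem_preimage.2 (Set.mem_singleton_iff.2 hx)⟩
        (hcl.preimage q.left.continuous).isLocallyClosed
      obtain ⟨h, hh⟩ := PtsDetect19.exists_point (k := k) k z hzc
      refine ⟨h, pt_ext k ?_⟩
      rw [Over.comp_left, Scheme.Hom.comp_apply, hh]
      exact hz
    intro t
    -- translate
    let τ : WittGrp.W p 1 (Spec (CommRingCat.of k)) ⟶ WittGrp.W p 1 (Spec (CommRingCat.of k)) := (toUnit _ ≫ sec0 k t) * (𝟙 (WittGrp.W p 1 (Spec (CommRingCat.of k))))⁻¹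
    have hτ : ∀ s : sk k ⟶ WittGrp.W p 1 (Spec (CommRingCat.of k)), s ≫ τ = t * s⁻¹ := fun s => by
      rw [MonObj.comp_mul, GrpObj.comp_inv, Category.comp_id, ← Category.assoc, toUnit_unique (s ≫ toUnit _) (toUnit _),
        toUnit_sec0]
    have hττ : τ ≫ τ = 𝟙 _ := by
      rw [show τ ≫ τ = (τ ≫ toUnit _ ≫ sec0 k t) * τ⁻¹ by rw [MonObj.comp_mul, GrpObj.comp_inv, Category.comp_id],
        ← Category.assoc, toUnit_unique (τ ≫ toUnit _) (toUnit _)]
      simp only [τ, mul_inv_rev, inv_inv]
      rw [mul_comm (𝟙 _), ← _root_.mul_assoc, mul_inv_cancel, _root_.one_mul]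
    have hsurj : Function.Surjective τ.left := fun y => ⟨τ.left y, by
      rw [← Scheme.Hom.comp_apply, ← Over.comp_left, hττ]; rfl⟩
    obtain ⟨y₀, hy₀⟩ := hsurj η₁
    obtain ⟨y, hy1, hy2⟩ := nonempty_preirreducible_inter hU (hU.preimage τ.left.continuous)
      ⟨η₁, hηZ⟩ ⟨y₀, show τ.left y₀ ∈ U by rw [hy₀]; exact hηZ⟩
    haveI : JacobsonSpace (WittGrp.W p 1 (Spec (CommRingCat.of k))).left := LocallyOfFiniteType.jacobsonSpace (WittGrp.W p 1 (Spec (CommRingCat.of k))).hom
    obtain ⟨z, hz, hzc⟩ := nonempty_inter_closedPoints (show (U ∩ τ.left ⁻¹' U).Nonempty from ⟨y, hy1, hy2⟩)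
      (hU.inter (hU.preimage τ.left.continuous)).isLocallyClosed
    obtain ⟨s, hs⟩ := PtsDetect19.exists_point (k := k) k z hzc
    obtain ⟨h₁, e₁⟩ := hlift s (by rw [hs]; exact hz.1)
    obtain ⟨h₂, e₂⟩ := hlift (t * s⁻¹) (by
      rw [← hτ, Over.comp_left, Scheme.Hom.comp_apply, hs]; exact hz.2)
    exact ⟨h₂ * h₁, by rw [MonObj.mul_comp, e₁, e₂, inv_mul_cancel_right]⟩
  · left
    have hclosed : ∀ z ∈ Set.range q.left, IsClosed ({z} : Set (WittGrp.W p 1 (Spec (CommRingCat.of k))).left) := fun z hz =>
      (eq_genericPoint_or_isClosed p k z).resolve_left fun h => hg (by rw [h] at hz; exact hz)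
    have hfin : (Set.range q.left).Finite := by
      refine ((NoetherianSpace.finite_irreducibleComponents (α := H.left)).biUnion (t := fun c => q.left '' c)
        fun c hc => ?_).subset ?_
      · obtain ⟨ξ, hξ⟩ : ∃ ξ, IsGenericPoint ξ c :=
          QuasiSober.sober hc.1 (isClosed_of_mem_irreducibleComponents c hc)
        refine (Set.finite_singleton (q.left ξ)).subset ?_
        rintro _ ⟨x, hx, rfl⟩
        exact ((hclosed _ ⟨ξ, rfl⟩).closure_subset_iff.2 subset_rfl)
          (map_mem_closure q.left.continuous (t := {q.left ξ}) (s := {ξ}) (by rw [hξ.def]; exact hx) (fun a ha => by rw [Set.mem_singleton_iff.1 ha]; rfl))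
      · rintro _ ⟨x, rfl⟩
        exact Set.mem_biUnion (irreducibleComponent_mem_irreducibleComponents x) ⟨x, mem_irreducibleComponent, rfl⟩
    have hsingle : (Set.range q.left).Subsingleton := by
      rintro a ⟨x, rfl⟩ b ⟨y, rfl⟩
      have hU' : IsClopen (q.left ⁻¹' {q.left x}) := by
        refine ⟨(hclosed _ ⟨x, rfl⟩).preimage q.left.continuous, ?_⟩
        rw [← isClosed_compl_iff, show (q.left ⁻¹' {q.left x})ᶜ = q.left ⁻¹' (Set.range q.left \ {q.left x}) by
          ext; simp]
        refine IsClosed.preimage q.left.continuous ?_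
        rw [← Set.biUnion_of_singleton (Set.range q.left \ {q.left x})]
        exact (hfin.sdiff).isClosed_biUnion fun z hz => hclosed z hz.1
      have := hU'.eq_univ ⟨x, rfl⟩
      exact (show y ∈ q.left ⁻¹' {q.left x} by rw [this]; trivial).symm
    haveI := isReduced_of_smooth' k (H := H)
    haveI : IsClosedImmersion (η[WittGrp.W p 1 (Spec (CommRingCat.of k))]).left := isClosedImmersion_unit p k 1
    obtain ⟨l, hl⟩ := PtsDetect19.lift_of_range q η[WittGrp.W p 1 (Spec (CommRingCat.of k))] (by
      rintro z ⟨x, rfl⟩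
      have h1 : (1 : sk k ⟶ H) ≫ q = toUnit (sk k) ≫ η[WittGrp.W p 1 (Spec (CommRingCat.of k))] := MonObj.one_comp _
      refine ⟨(toUnit (sk k)).left (IsLocalRing.closedPoint k), hsingle ?_ ⟨x, rfl⟩⟩
      exact ⟨(1 : sk k ⟶ H).left (IsLocalRing.closedPoint k), by
        rw [← Scheme.Hom.comp_apply, ← Scheme.Hom.comp_apply, ← Over.comp_left, ← Over.comp_left, h1]⟩)
    rw [← hl, toUnit_unique l (toUnit H)]
    rfl

/-- A smooth connected subgroup of a Witt group is a shifted Witt group. -/
theorem exists_iso_shift [CharP k p] (n : ℕ) (j : H ⟶ WittGrp.W p n (Spec (CommRingCat.of k))) [IsMonHom j] [IsClosedImmersion j.left] :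
    ∃ (i : ℕ) (hi : i ≤ n) (e : H ≅ WittGrp.W p i (Spec (CommRingCat.of k))), e.hom ≫ WittGrp.V p (Spec (CommRingCat.of k)) hi = j := by
  have hR : (p : Γ((Spec (CommRingCat.of k)), ⊤)) = 0 := by
    rw [← map_natCast (Scheme.ΓSpecIso (CommRingCat.of k)).inv.hom p]; simp
  have hA := WittGrp.natCast_eq_zero_of_over p hR (sk k)
  haveI := isReduced_of_smooth' k (H := H)
  have hfull : ∀ (m : ℕ) (j : H ⟶ WittGrp.W p m (Spec (CommRingCat.of k))) [IsMonHom j] [IsClosedImmersion j.left],
      (∀ t : sk k ⟶ WittGrp.W p m (Spec (CommRingCat.of k)), ∃ h, h ≫ j = t) →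
      ∃ (i : ℕ) (hi : i ≤ m) (e : H ≅ WittGrp.W p i (Spec (CommRingCat.of k))), e.hom ≫ WittGrp.V p (Spec (CommRingCat.of k)) hi = j := by
    intro m j _ _ hpts
    obtain ⟨l, hl⟩ := PtsDetect19.exists_lift_algClosed k (𝟙 (WittGrp.W p m (Spec (CommRingCat.of k)))) j
      (fun w => ⟨_, (hpts w).choose_spec.trans (Category.comp_id w).symm⟩)
    haveI : Mono j.left := inferInstance
    haveI : Mono j := Over.mono_of_mono_left j
    refine ⟨m, le_rfl, ⟨j, l, by rw [← cancel_mono j, Category.assoc, hl, Category.id_comp, Category.comp_id], hl⟩, ?_⟩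
    refine vec_injective (TruncatedWittVector.ext fun i => ?_)
    rw [vec_V, WittGrp.coeff_shift, dif_pos (by omega)]
    congr 1
    exact Fin.ext (by simp)
  induction n with
  | zero => exact hfull 0 j fun t => ⟨1, by rw [MonObj.one_comp]; exact vec_injective (TruncatedWittVector.ext fun i => i.elim0)⟩
  | succ n ih =>
    haveI : QuasiCompact H.hom := by rw [← Over.w j]; infer_instance
    have h1 : 1 ≤ n + 1 := Nat.le_add_left 1 n
    rcases eq_one_or_surjective p k (j ≫ WittGrp.R p (Spec (CommRingCat.of k)) h1) with hq | hq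
    · have hv : TruncatedWittVector.truncate h1 (vec j) = 0 := by rw [← vec_R, hq, vec_one]
      obtain ⟨w, hw⟩ := exists_shift_eq p (Nat.le_succ n) (vec j) (fun i hi => by
        have h := congrArg (fun v => TruncatedWittVector.coeff (p := p) (0 : Fin 1) v) hv
        simp only [TruncatedWittVector.coeff_truncate, TruncatedWittVector.coeff_zero] at h
        rwa [show i = Fin.castLE h1 0 from Fin.ext (show (i : ℕ) = 0 by omega)])
      let j' : H ⟶ WittGrp.W p n (Spec (CommRingCat.of k)) := ofVec w
      have hj' : j' ≫ WittGrp.V p (Spec (CommRingCat.of k)) (Nat.le_succ n) = j := vec_injective (by rw [vec_V, vec_ofVec, hw])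
      haveI : IsMonHom j' := WittGrp.isMonHom_of_comp_mul j'
        (vec_injective (shift_injective p (Nat.le_succ n) (by
          rw [← vec_V, Category.assoc, hj', MonObj.one_comp, vec_one, vec_one, map_zero])))
        (fun T x y => vec_injective (shift_injective p (Nat.le_succ n) (by
          rw [vec_mul, map_add, ← vec_V, ← vec_V, ← vec_V, Category.assoc, Category.assoc, Category.assoc, hj',
            MonObj.mul_comp, vec_mul])))
      haveI : IsClosedImmersion (j'.left ≫ (WittGrp.V p (Spec (CommRingCat.of k)) (Nat.le_succ n)).left) := by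
        rw [← Over.comp_left, hj']; infer_instance
      haveI : IsClosedImmersion j'.left := IsClosedImmersion.of_comp j'.left (WittGrp.V p (Spec (CommRingCat.of k)) (Nat.le_succ n)).left
      obtain ⟨i, hi, e, he⟩ := ih j'
      refine ⟨i, hi.trans (Nat.le_succ n), e, ?_⟩
      rw [← hj', ← he, Category.assoc]
      congr 1
      refine eq_of_comp_eq fun T x => vec_injective ?_
      rw [← Category.assoc, vec_V, vec_V, vec_V]
      exact (shift_shift' p hi _ _ _).symm
    · refine hfull (n + 1) j ?_
      suffices H' : ∀ (d : ℕ) (v : TruncatedWittVector p (n + 1) Γ((sk k).left, ⊤)),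
          (∀ i : Fin (n + 1), (i : ℕ) < n + 1 - d → v.coeff i = 0) → ∃ h, vec (h ≫ j) = v by
        intro t
        obtain ⟨h, hh⟩ := H' (n + 1) (vec t) (fun i hi => by omega)
        exact ⟨h, vec_injective hh⟩
      intro d
      induction d with
      | zero => exact fun v hv => ⟨1, by
          rw [MonObj.one_comp, vec_one]
          exact TruncatedWittVector.ext fun i => by rw [TruncatedWittVector.coeff_zero, hv i (by omega)]⟩
      | succ d ihd =>
        intro v hv
        by_cases hd : n + 1 ≤ d
        · exact ihd v (fun i hi => by omega)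
        set i : ℕ := n - d
        obtain ⟨a, ha⟩ : ∃ a : Γ((sk k).left, ⊤), a ^ p ^ i = v.coeff ⟨i, by omega⟩ := by
          let e : k ≃+* Γ((sk k).left, ⊤) := (Scheme.ΓSpecIso (CommRingCat.of k)).symm.commRingCatIsoToRingEquiv
          obtain ⟨b, hb⟩ := IsAlgClosed.exists_pow_nat_eq (e.symm (v.coeff ⟨i, by omega⟩)) (pow_pos hp.out.pos i)
          exact ⟨e b, by rw [← map_pow, hb, e.apply_symm_apply]⟩
        obtain ⟨h, hh⟩ := hq (ofVec (TruncatedWittVector.mk p fun _ => a))
        let w := p ^ i • vec (h ≫ j)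
        have hcoeff : ∀ l : Fin (n + 1), (l : ℕ) ≤ i → w.coeff l = v.coeff l := by
          intro l hl
          rw [show w = p ^ i • vec (h ≫ j) from rfl, coeff_nsmul_prime_pow p hA]
          split_ifs with hil
          · have hli : (⟨i, by omega⟩ : Fin (n + 1)) = l := Fin.ext (by simp; omega)
            have h2 := congrArg (fun t => (vec t).coeff (0 : Fin 1)) hh
            simp only [← Category.assoc, vec_R, vec_ofVec, TruncatedWittVector.coeff_truncate,
              TruncatedWittVector.coeff_mk] at h2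
            rw [show (⟨(l : ℕ) - i, by omega⟩ : Fin (n + 1)) = Fin.castLE h1 0 from Fin.ext (by simp; omega), h2, ha, hli]
          · exact (hv l (by omega)).symm
        have hvw : ∀ l : Fin (n + 1), (l : ℕ) < n + 1 - d → (v - w).coeff l = 0 := fun l hl => by
          have hle : i + 1 ≤ n + 1 := by omega
          have e : TruncatedWittVector.truncate hle (v - w) = 0 := by
            rw [map_sub, sub_eq_zero]
            refine TruncatedWittVector.ext fun l' => ?_
            rw [TruncatedWittVector.coeff_truncate, TruncatedWittVector.coeff_truncate, hcoeff _ (by simp; omega)]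
          have h' := congrArg (fun u => TruncatedWittVector.coeff (p := p) (⟨l, by omega⟩ : Fin (i + 1)) u) e
          simp only [TruncatedWittVector.coeff_truncate, TruncatedWittVector.coeff_zero] at h'
          exact h'
        obtain ⟨h', hh'⟩ := ihd (v - w) hvw
        refine ⟨h' * h ^ p ^ i, ?_⟩
        rw [MonObj.mul_comp, vec_mul, hh', show (h ^ p ^ i) ≫ j = (h ≫ j) ^ p ^ i from pow_comp' _ _ _, vec_pow]
        exact sub_add_cancel v w

end Groth.Agent.WittHom23
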