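import Groth.Prelude.Def_WittGrp
import Mathlib.RingTheory.MvPolynomial.Expand
import Mathlib.RingTheory.Nilpotent.Lemmas

/-!
# Homomorphisms between Witt group schemes: generalities
-/

set_option autoImplicit false

universe u

open CategoryTheory AlgebraicGeometry MonObj MonoidalCategory CartesianMonoidalCategory

noncomputable section

namespace Groth.Agent.WittHom23

variable {p : ℕ} [hp : Fact p.Prime] {S : Scheme.{u}} {n m l : ℕ} {T T' : Over S}

/-- The Witt vector of a point. -/
abbrev vec (x : T ⟶ WittGrp.W p n S) : TruncatedWittVector p n Γ(T.left, ⊤) := WittGrp.pts p T (Additive.ofMul x)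

theorem vec_injective : Function.Injective (vec : (T ⟶ WittGrp.W p n S) → _) := WittGrp.pts_injective p T

theorem vec_mul (x y : T ⟶ WittGrp.W p n S) : vec (x * y) = vec x + vec y := WittGrp.pts_mul p T x y

theorem vec_one : vec (1 : T ⟶ WittGrp.W p n S) = 0 := WittGrp.pts_one p T

theorem vec_pow (x : T ⟶ WittGrp.W p n S) (a : ℕ) : vec (x ^ a) = a • vec x := by
  rw [vec, ofMul_pow, map_nsmul]

theorem vec_inv (x : T ⟶ WittGrp.W p n S) : vec x⁻¹ = - vec x := by
  rw [vec, ofMul_inv, map_neg]

/-- The point with given Witt vector. -/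
def ofVec (v : TruncatedWittVector p n Γ(T.left, ⊤)) : T ⟶ WittGrp.W p n S :=
  (WittGrp.ptsMul p T).symm (Multiplicative.ofAdd v)

theorem vec_ofVec (v : TruncatedWittVector p n Γ(T.left, ⊤)) : vec (S := S) (ofVec v) = v :=
  congrArg Multiplicative.toAdd ((WittGrp.ptsMul p T).apply_symm_apply (Multiplicative.ofAdd v))

theorem ofVec_vec (x : T ⟶ WittGrp.W p n S) : ofVec (vec x) = x := (WittGrp.ptsMul p T).symm_apply_apply x

/-- Two morphisms between Witt groups agree if they agree on every point. -/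
theorem eq_of_comp_eq {X : Over S} {f g : WittGrp.W p n S ⟶ X} (h : ∀ (T : Over S) (x : T ⟶ WittGrp.W p n S), x ≫ f = x ≫ g) :
    f = g := by simpa using h _ (𝟙 _)

theorem isMonHom_of_vec {f : WittGrp.W p n S ⟶ WittGrp.W p m S}
    (hadd : ∀ (T : Over S) (x y : T ⟶ WittGrp.W p n S), vec ((x * y) ≫ f) = vec (x ≫ f) + vec (y ≫ f)) : IsMonHom f := by
  refine WittGrp.isMonHom_of_comp_mul f (vec_injective ?_) fun T x y => vec_injective ?_
  · have h := hadd (𝟙_ (Over S)) 1 1
    rw [_root_.mul_one] at h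
    rw [vec_one]
    exact left_eq_add.1 h
  · rw [hadd, vec_mul]

theorem vec_comp_mul {f : WittGrp.W p n S ⟶ WittGrp.W p m S} [IsMonHom f] (x y : T ⟶ WittGrp.W p n S) :
    vec ((x * y) ≫ f) = vec (x ≫ f) + vec (y ≫ f) := by
  rw [MonObj.mul_comp, vec_mul]

theorem vec_comp_one {f : WittGrp.W p n S ⟶ WittGrp.W p m S} [IsMonHom f] :
    vec ((1 : T ⟶ WittGrp.W p n S) ≫ f) = 0 := by
  rw [MonObj.one_comp, vec_one]

theorem vec_comp_pow {f : WittGrp.W p n S ⟶ WittGrp.W p m S} [IsMonHom f] (x : T ⟶ WittGrp.W p n S) (a : ℕ) :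
    vec ((x ^ a) ≫ f) = a • vec (x ≫ f) := by
  induction a with
  | zero => rw [pow_zero, vec_comp_one, zero_smul]
  | succ a ih => rw [pow_succ, vec_comp_mul, ih, succ_nsmul]

theorem vec_R (h : n ≤ m) (x : T ⟶ WittGrp.W p m S) :
    vec (x ≫ WittGrp.R p S h) = TruncatedWittVector.truncate h (vec x) := WittGrp.pts_R p h x

theorem vec_V (h : n ≤ m) (x : T ⟶ WittGrp.W p n S) :
    vec (x ≫ WittGrp.V p S h) = WittGrp.shift p h (vec x) := WittGrp.pts_V p h x

theorem vec_comp (g : T' ⟶ T) (x : T ⟶ WittGrp.W p n S) :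
    vec (g ≫ x) = WittGrp.truncMap p n (g.left.appTop).hom (vec x) := WittGrp.pts_comp p g x

/-! ## Ring level -/

section ring

variable (p)
variable {A : Type u} [CommRing A]

theorem coeff_shift_add (h : n ≤ m) (v : TruncatedWittVector p n A) (i : Fin n) :
    (WittGrp.shift p h v).coeff ⟨m - n + i, by omega⟩ = v.coeff i := by
  rw [WittGrp.coeff_shift, dif_pos (Nat.le_add_right _ _)]
  congr 1
  exact Fin.ext (by simp)

theorem shift_injective (h : n ≤ m) : Function.Injective (WittGrp.shift p h : TruncatedWittVector p n A → _) :=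
  fun v w hvw => TruncatedWittVector.ext fun i => by rw [← coeff_shift_add p h v, hvw, coeff_shift_add]

theorem exists_shift_eq (h : n ≤ m) (v : TruncatedWittVector p m A) (hv : ∀ i : Fin m, (i : ℕ) < m - n → v.coeff i = 0) :
    ∃ w : TruncatedWittVector p n A, WittGrp.shift p h w = v := by
  refine ⟨TruncatedWittVector.mk p fun i => v.coeff ⟨m - n + i, by omega⟩, TruncatedWittVector.ext fun i => ?_⟩
  rw [WittGrp.coeff_shift]
  split_ifs with hi
  · rw [TruncatedWittVector.coeff_mk]
    congr 1
    exact Fin.ext (show m - n + ((i : ℕ) - (m - n)) = i by omega)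
  · exact (hv i (by omega)).symm

theorem nsmul_prime_eq (h : (p : A) = 0) (v : TruncatedWittVector p n A) :
    p • v = TruncatedWittVector.truncate (Nat.le_add_right n 1)
      (WittGrp.shift p (Nat.le_add_right n 1) (WittGrp.frob p n h v)) := by
  rcases subsingleton_or_nontrivial A with hA | hA
  · exact TruncatedWittVector.ext fun i => Subsingleton.elim _ _
  haveI : CharP A p := (CharP.charP_iff_prime_eq_zero hp.out).mpr h
  obtain ⟨X, rfl⟩ := WittVector.truncate_surjective p n A v
  rw [WittGrp.frob_truncate, WittGrp.shift_truncate, TruncatedWittVector.truncate_wittVector_truncate, ← map_nsmul]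
  rw [show n + 1 - n = 1 by omega, Function.iterate_one, WittVector.verschiebung_frobenius, mul_comm, ← nsmul_eq_mul]

theorem coeff_eq_zero_of_nsmul_prime [IsReduced A] (h : (p : A) = 0) {v : TruncatedWittVector p n A}
    (hv : p • v = 0) (i : Fin n) (hi : (i : ℕ) + 1 < n) : v.coeff i = 0 := by
  have h1 := congrArg (fun w => TruncatedWittVector.coeff (p := p) (⟨(i : ℕ) + 1, hi⟩ : Fin n) w) hv
  simp only [nsmul_prime_eq p h, TruncatedWittVector.coeff_truncate, WittGrp.coeff_shift,
    TruncatedWittVector.coeff_zero, Fin.val_castLE] at h1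
  rw [dif_pos (by omega), WittGrp.coeff_frob] at h1
  have h2 := eq_zero_of_pow_eq_zero h1
  convert h2 using 2
  exact Fin.ext (show (i : ℕ) = (i : ℕ) + 1 - (n + 1 - n) by omega)

theorem nsmul_prime_of_one (h : (p : A) = 0) (v : TruncatedWittVector p 1 A) : p • v = 0 := by
  refine TruncatedWittVector.ext fun i => ?_
  rw [nsmul_prime_eq p h, TruncatedWittVector.coeff_truncate, WittGrp.coeff_shift, dif_neg (by simp),
    TruncatedWittVector.coeff_zero]

end ring

/-! ## The coordinate ring -/

section field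

variable (p) (R : CommRingCat.{u}) (n)

/-- The coordinate ring of `W_n` over an affine base is a polynomial ring. -/
def toPoly : Γ((WittGrp.W p n (Spec R)).left, ⊤) →+* MvPolynomial (ULift.{u} (Fin n)) R :=
  ((AffineSpace.SpecIso.{u} (ULift.{u} (Fin n)) R).inv.appTop ≫ (Scheme.ΓSpecIso _).hom).hom

theorem toPoly_bijective : Function.Bijective (toPoly p n R) :=
  ((Scheme.Γ.mapIso (AffineSpace.SpecIso.{u} (ULift.{u} (Fin n)) R).symm.op) ≪≫
    Scheme.ΓSpecIso (CommRingCat.of (MvPolynomial (ULift.{u} (Fin n)) R))).commRingCatIsoToRingEquiv.bijective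

theorem toPoly_coord (i : Fin n) : toPoly p n R (WittGrp.coord p i) = MvPolynomial.X (ULift.up i) := by
  change (Scheme.ΓSpecIso _).hom ((AffineSpace.SpecIso.{u} (ULift.{u} (Fin n)) R).inv.appTop _) = _
  rw [show WittGrp.coord p i = AffineSpace.coord (Spec R) (ULift.up i) from rfl, AffineSpace.SpecIso_inv_appTop_coord.{u}]
  exact Iso.inv_hom_id_apply _ _

theorem toPoly_const (c : R) : toPoly p n R ((WittGrp.W p n (Spec R)).hom.appTop ((Scheme.ΓSpecIso R).inv c)) =
    MvPolynomial.C c := by
  have h := congrArg (fun f : Spec (CommRingCat.of (MvPolynomial (ULift.{u} (Fin n)) R)) ⟶ Spec R =>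
    (f.appTop).hom ((Scheme.ΓSpecIso R).inv c))
    (AffineSpace.SpecIso_inv_over.{u} (n := ULift.{u} (Fin n)) R)
  change (Scheme.ΓSpecIso _).hom ((AffineSpace.SpecIso.{u} (ULift.{u} (Fin n)) R).inv.appTop
    ((𝔸(ULift.{u} (Fin n); Spec R) ↘ Spec R).appTop _)) = _
  refine (congrArg _ (h.trans ?_)).trans (Iso.inv_hom_id_apply _ _)
  exact (congrArg (fun ψ => (ConcreteCategory.hom ψ) c) (Scheme.ΓSpecIso_inv_naturality (CommRingCat.ofHom (MvPolynomial.C (R := R) (σ := ULift.{u} (Fin n)))))).symm

theorem isReduced_coordRing [IsDomain R] : IsReduced Γ((WittGrp.W p n (Spec R)).left, ⊤) :=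
  isReduced_of_injective (toPoly p n R) (toPoly_bijective p n R).1

theorem appTop_F_injective (hR : (p : Γ(Spec R, ⊤)) = 0) :
    Function.Injective (WittGrp.F p n (Spec R) hR).left.appTop := by
  let e := RingEquiv.ofBijective _ (toPoly_bijective p n R)
  have h : ((toPoly p n R).comp (WittGrp.F p n (Spec R) hR).left.appTop.hom).comp e.symm.toRingHom =
      (MvPolynomial.expand p (R := R) (σ := ULift.{u} (Fin n))).toRingHom := by
    refine MvPolynomial.ringHom_ext (fun c => ?_) (fun i => ?_)
    · have : e.symm (MvPolynomial.C c) = (WittGrp.W p n (Spec R)).hom.appTop ((Scheme.ΓSpecIso R).inv c) :=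
        e.injective (by rw [e.apply_symm_apply]; exact (toPoly_const p n R c).symm)
      simp only [RingHom.comp_apply, RingEquiv.toRingHom_eq_coe, RingHom.coe_coe, this, AlgHom.toRingHom_eq_coe,
        MvPolynomial.expand_C]
      refine Eq.trans (congrArg (toPoly p n R) ?_) (toPoly_const p n R c)
      exact congrArg (fun f => (Scheme.Hom.appTop f).hom ((Scheme.ΓSpecIso R).inv c)) (Over.w (WittGrp.F p n (Spec R) hR))
    · obtain ⟨i⟩ := i
      have : e.symm (MvPolynomial.X (ULift.up i)) = WittGrp.coord p i :=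
        e.injective (by rw [e.apply_symm_apply]; exact (toPoly_coord p n R i).symm)
      simp only [RingHom.comp_apply, RingEquiv.toRingHom_eq_coe, RingHom.coe_coe, this, AlgHom.toRingHom_eq_coe,
        MvPolynomial.expand_X]
      have h1 := WittGrp.coeff_pts p _ (WittGrp.F p n (Spec R) hR) i
      have h2 := WittGrp.pts_F p hR (𝟙 (WittGrp.W p n (Spec R)))
      rw [Category.id_comp] at h2
      rw [h2, WittGrp.coeff_frob, WittGrp.coeff_pts] at h1
      refine (congrArg (toPoly p n R) h1.symm).trans ?_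
      rw [map_pow]
      congr 1
      exact toPoly_coord p n R i
  intro a b hab
  obtain ⟨a, rfl⟩ := e.symm.surjective a
  obtain ⟨b, rfl⟩ := e.symm.surjective b
  refine congrArg e.symm (MvPolynomial.expand_injective (R := R) (σ := ULift.{u} (Fin n)) hp.out.ne_zero.bot_lt ?_)
  exact (DFunLike.congr_fun h a).symm.trans ((congrArg (toPoly p n R) hab).trans (DFunLike.congr_fun h b))

end field

end Groth.Agent.WittHom23
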