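import Groth.Agent.Lib.WittHom23.Factor
import Mathlib.RingTheory.WittVector.Teichmuller

/-!
# Frobenius polynomials acting on Witt groups, and their compatibility with restriction and shift
-/

set_option autoImplicit false

universe u

open CategoryTheory AlgebraicGeometry MonObj MonoidalCategory CartesianMonoidalCategory

noncomputable section

namespace Groth.Agent.WittHom23

variable (p : ℕ) [hp : Fact p.Prime]

section ring

variable {A : Type u} [CommRing A] (hA : (p : A) = 0) {n m : ℕ}

theorem coeff_frob_iterate (j : ℕ) (v : TruncatedWittVector p n A) (i : Fin n) :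
    ((WittGrp.frob p n hA)^[j] v).coeff i = v.coeff i ^ p ^ j := by
  induction j with
  | zero => simp
  | succ j ih => rw [Function.iterate_succ_apply', WittGrp.coeff_frob, ih, ← pow_mul, pow_succ]

theorem truncate_frob_iterate (j : ℕ) (h : n ≤ m) (v : TruncatedWittVector p m A) :
    TruncatedWittVector.truncate h ((WittGrp.frob p m hA)^[j] v) =
      (WittGrp.frob p n hA)^[j] (TruncatedWittVector.truncate h v) :=
  TruncatedWittVector.ext fun i => by
    simp only [TruncatedWittVector.coeff_truncate, coeff_frob_iterate]

theorem shift_frob_iterate (j : ℕ) (h : n ≤ m) (v : TruncatedWittVector p n A) :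
    WittGrp.shift p h ((WittGrp.frob p n hA)^[j] v) = (WittGrp.frob p m hA)^[j] (WittGrp.shift p h v) :=
  TruncatedWittVector.ext fun i => by
    rw [coeff_frob_iterate, WittGrp.coeff_shift, WittGrp.coeff_shift]
    split_ifs with hi
    · rw [coeff_frob_iterate]
    · rw [zero_pow (pow_ne_zero _ hp.out.ne_zero)]

theorem shift_mul (h : n ≤ m) (v : TruncatedWittVector p n A) (c : TruncatedWittVector p m A) :
    WittGrp.shift p h v * c =
      WittGrp.shift p h (v * (WittGrp.frob p n hA)^[m - n] (TruncatedWittVector.truncate h c)) := by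
  rcases subsingleton_or_nontrivial A with hA' | hA'
  · exact TruncatedWittVector.ext fun i => Subsingleton.elim _ _
  haveI : CharP A p := (CharP.charP_iff_prime_eq_zero hp.out).mpr hA
  obtain ⟨X, rfl⟩ := WittVector.truncate_surjective p n A v
  obtain ⟨Y, rfl⟩ := WittVector.truncate_surjective p m A c
  have hit : ∀ (j : ℕ) (Z : WittVector p A), (WittGrp.frob p n hA)^[j] (WittVector.truncate n Z) =
      WittVector.truncate n (WittVector.frobenius^[j] Z) := by
    intro j
    induction j with
    | zero => simp
    | succ j ih => intro Z; rw [Function.iterate_succ_apply', Function.iterate_succ_apply', ih, WittGrp.frob_truncate]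
  have hV : ∀ (d : ℕ) (X Y : WittVector p A), WittVector.verschiebung^[d] (X * WittVector.frobenius^[d] Y) =
      WittVector.verschiebung^[d] X * Y := by
    intro d
    induction d with
    | zero => simp
    | succ d ih =>
      intro X Y
      rw [Function.iterate_succ_apply' WittVector.frobenius, Function.iterate_succ_apply WittVector.verschiebung,
        WittVector.verschiebung_mul_frobenius, ih, ← Function.iterate_succ_apply WittVector.verschiebung]
  rw [TruncatedWittVector.truncate_wittVector_truncate, hit, ← map_mul, WittGrp.shift_truncate, WittGrp.shift_truncate,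
    ← map_mul, hV]

include hA in
theorem coeff_nsmul_prime_pow (j : ℕ) (v : TruncatedWittVector p n A) (i : Fin n) :
    (p ^ j • v).coeff i = if h : j ≤ (i : ℕ) then v.coeff ⟨i - j, by omega⟩ ^ p ^ j else 0 := by
  induction j generalizing i with
  | zero => simp
  | succ j ih =>
    rw [show p ^ (j + 1) • v = p • (p ^ j • v) by rw [← mul_nsmul', ← pow_succ'], nsmul_prime_eq p hA, TruncatedWittVector.coeff_truncate, WittGrp.coeff_shift]
    simp only [Fin.val_castLE]
    by_cases hj : j + 1 ≤ (i : ℕ)
    · rw [dif_pos (show n + 1 - n ≤ (i : ℕ) by omega), dif_pos hj, WittGrp.coeff_frob, ih,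
        dif_pos (show j ≤ (i : ℕ) - (n + 1 - n) by omega), ← pow_mul, ← pow_succ]
      congr 2
      exact Fin.ext (show (i : ℕ) - (n + 1 - n) - j = i - (j + 1) by omega)
    · rw [dif_neg hj]
      split_ifs with hi
      · rw [WittGrp.coeff_frob, ih, dif_neg (show ¬ j ≤ (i : ℕ) - (n + 1 - n) by omega), zero_pow hp.out.ne_zero]
      · rfl

/-- Truncated Teichmüller representative. -/
def teich (n : ℕ) (a : A) : TruncatedWittVector p n A := WittVector.truncate n (WittVector.teichmuller p a)

theorem truncate_teich (h : n ≤ m) (a : A) : TruncatedWittVector.truncate h (teich p m a) = teich p n a :=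
  TruncatedWittVector.truncate_wittVector_truncate _ _

theorem coeff_teich (a : A) (i : Fin n) : (teich p n a).coeff i = if (i : ℕ) = 0 then a else 0 := by
  rw [teich, WittVector.coeff_truncate]
  split_ifs with h
  · rw [h, WittVector.teichmuller_coeff_zero]
  · exact WittVector.teichmuller_coeff_pos p a _ (Nat.pos_of_ne_zero h)

theorem frob_iterate_teich (j : ℕ) (a : A) : (WittGrp.frob p n hA)^[j] (teich p n a) = teich p n (a ^ p ^ j) :=
  TruncatedWittVector.ext fun i => by
    rw [coeff_frob_iterate, coeff_teich, coeff_teich]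
    split_ifs
    · rfl
    · rw [zero_pow (pow_ne_zero _ hp.out.ne_zero)]

theorem coeff_zero_mul (v w : TruncatedWittVector p 1 A) : (v * w).coeff 0 = v.coeff 0 * w.coeff 0 := by
  obtain ⟨X, rfl⟩ := WittVector.truncate_surjective p 1 A v
  obtain ⟨Y, rfl⟩ := WittVector.truncate_surjective p 1 A w
  rw [← map_mul]
  simp only [WittVector.coeff_truncate]
  exact WittVector.mul_coeff_zero X Y

/-- The zeroth component as an additive map on vectors of length one. -/
def coeff0 : TruncatedWittVector p 1 A →+ A where
  toFun v := v.coeff 0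
  map_zero' := TruncatedWittVector.coeff_zero _ _ _ (0 : Fin 1)
  map_add' v w := by
    obtain ⟨X, rfl⟩ := WittVector.truncate_surjective p 1 A v
    obtain ⟨Y, rfl⟩ := WittVector.truncate_surjective p 1 A w
    rw [← map_add]
    simp only [WittVector.coeff_truncate]
    exact WittVector.add_coeff_zero X Y

end ring

section scheme

variable (R : CommRingCat.{u}) (hR : (p : Γ(Spec R, ⊤)) = 0) {n m : ℕ}

/-- The structure map of the functions of a scheme over `Spec R`. -/
def const (T : Over (Spec R)) : R →+* Γ(T.left, ⊤) := ((Scheme.ΓSpecIso R).inv ≫ T.hom.appTop).hom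

theorem const_comp {T T' : Over (Spec R)} (g : T' ⟶ T) (c : R) : g.left.appTop.hom (const R T c) = const R T' c :=
  congrArg (fun f => (Scheme.Hom.appTop f).hom ((Scheme.ΓSpecIso R).inv c)) (Over.w g)

theorem toPoly_const' (c : R) : toPoly p n R (const R _ c) = MvPolynomial.C c := toPoly_const p n R c

theorem truncMap_frob_iterate {A B : Type u} [CommRing A] [CommRing B] (hA : (p : A) = 0) (hB : (p : B) = 0) (f : A →+* B)
    (j : ℕ) (v : TruncatedWittVector p n A) :
    WittGrp.truncMap p n f ((WittGrp.frob p n hA)^[j] v) = (WittGrp.frob p n hB)^[j] (WittGrp.truncMap p n f v) :=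
  TruncatedWittVector.ext fun i => by simp only [WittGrp.coeff_truncMap, coeff_frob_iterate, map_pow]

theorem truncMap_teich {A B : Type u} [CommRing A] [CommRing B] (f : A →+* B) (a : A) :
    WittGrp.truncMap p n f (teich p n a) = teich p n (f a) := by
  rw [teich, WittGrp.truncMap_truncate, WittVector.map_teichmuller]
  rfl

variable (n) in
/-- The endomorphism `x ↦ ∑ [a j] F^j x`. -/
def lift (s : Finset ℕ) (a : ℕ → R) : WittGrp.W p n (Spec R) ⟶ WittGrp.W p n (Spec R) :=
  ofVec (∑ j ∈ s, teich p n (const R _ (a j)) *
    (WittGrp.frob p n (WittGrp.natCast_eq_zero_of_over p hR _))^[j] (vec (𝟙 _)))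

theorem vec_lift (s : Finset ℕ) (a : ℕ → R) {T : Over (Spec R)} (x : T ⟶ WittGrp.W p n (Spec R)) :
    vec (x ≫ lift p R hR n s a) = ∑ j ∈ s, teich p n (const R T (a j)) *
      (WittGrp.frob p n (WittGrp.natCast_eq_zero_of_over p hR T))^[j] (vec x) := by
  rw [vec_comp, lift, vec_ofVec, map_sum]
  refine Finset.sum_congr rfl fun j _ => ?_
  rw [map_mul, truncMap_teich, truncMap_frob_iterate, const_comp, ← vec_comp, Category.comp_id]

theorem isMonHom_lift (s : Finset ℕ) (a : ℕ → R) : IsMonHom (lift p R hR n s a) :=
  isMonHom_of_vec fun T x y => by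
    simp only [vec_lift, vec_mul]
    rw [← Finset.sum_add_distrib]
    refine Finset.sum_congr rfl fun j _ => ?_
    rw [iterate_map_add, mul_add]

theorem lift_comp_R (s : Finset ℕ) (a : ℕ → R) (h : n ≤ m) :
    lift p R hR m s a ≫ WittGrp.R p (Spec R) h = WittGrp.R p (Spec R) h ≫ lift p R hR n s a :=
  eq_of_comp_eq fun T x => vec_injective (by
    rw [← Category.assoc, ← Category.assoc, vec_R, vec_lift, vec_lift, map_sum]
    refine Finset.sum_congr rfl fun j _ => ?_
    rw [map_mul, truncate_teich, truncate_frob_iterate, vec_R])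

theorem lift_comp_V (s : Finset ℕ) (a b : ℕ → R) (h : n ≤ m) (hab : ∀ j ∈ s, b j ^ p ^ (m - n) = a j) :
    lift p R hR n s a ≫ WittGrp.V p (Spec R) h = WittGrp.V p (Spec R) h ≫ lift p R hR m s b :=
  eq_of_comp_eq fun T x => vec_injective (by
    rw [← Category.assoc, ← Category.assoc, vec_V, vec_lift, vec_lift, map_sum]
    refine Finset.sum_congr rfl fun j hj => ?_
    rw [vec_V, ← shift_frob_iterate p _ j h (vec x), mul_comm (teich p m _),
      shift_mul p (WittGrp.natCast_eq_zero_of_over p hR T) h, truncate_teich, frob_iterate_teich, ← map_pow, hab j hj,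
      mul_comm])

theorem lift_comp_F (s : Finset ℕ) (a b : ℕ → R) (hab : ∀ j ∈ s, b j ^ p = a j) :
    WittGrp.F p n (Spec R) hR ≫ lift p R hR n s a = lift p R hR n s b ≫ WittGrp.F p n (Spec R) hR :=
  eq_of_comp_eq fun T x => vec_injective (by
    rw [← Category.assoc, ← Category.assoc, vec_lift]
    simp only [vec, WittGrp.pts_F]
    rw [show WittGrp.pts p T (Additive.ofMul (x ≫ lift p R hR n s b)) = _ from vec_lift p R hR s b x, map_sum]
    refine Finset.sum_congr rfl fun j hj => ?_
    rw [map_mul, ← hab j hj, map_pow,
      show WittGrp.frob p n (WittGrp.natCast_eq_zero_of_over p hR T) (teich p n (const R T (b j))) =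
        (WittGrp.frob p n (WittGrp.natCast_eq_zero_of_over p hR T))^[1] (teich p n (const R T (b j))) from rfl,
      frob_iterate_teich, pow_one, ← Function.iterate_succ_apply, Function.iterate_succ_apply'])

end scheme

end Groth.Agent.WittHom23
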